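import Groth.Agent.Lib.Norm11.NormAlgFinite
import Mathlib.AlgebraicGeometry.Normalization

/-!
The finite birational scheme on which all norms exist.
-/

set_option autoImplicit false

universe u

open CategoryTheory Limits AlgebraicGeometry TopologicalSpace Opposite

set_option backward.isDefEq.respectTransparency false
set_option backward.defeqAttrib.useBackward true

noncomputable section

namespace Groth.Agent.Norm11

open Groth.Agent.M1

theorem toSpecΓ_app_fromSpec {V Y : Scheme.{u}} (f : V ⟶ Y) {U : Y.Opens} (hU : IsAffineOpen U) :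
    (f ⁻¹ᵁ U).toSpecΓ ≫ Spec.map (f.app U) ≫ hU.fromSpec = (f ⁻¹ᵁ U).ι ≫ f := by
  simp

theorem presheaf_map_endo {Y : Scheme.{u}} {O : (Y.Opens)ᵒᵖ} (e : O ⟶ O) : Y.presheaf.map e = 𝟙 _ := by
  rw [Subsingleton.elim e (𝟙 _), Y.presheaf.map_id]

variable {X X' : Scheme.{u}} [IsNoetherian X] (g : X' ⟶ X) [IsAffineHom g] (R : ℕ)

/-- Gluing data of the spectra of the norm rings. -/
def glueData : (Scheme.AffineZariskiSite.directedCover X).RelativeGluingData :=
  Scheme.AffineZariskiSite.relativeGluingData (coequifibered_normDiagramMap (g := g) (R := R))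

instance : ((glueData g R).functor ⋙ Scheme.forget).IsLocallyDirected :=
  Scheme.Cover.RelativeGluingData.instIsLocallyDirectedI₀CompFunctorForgetOfIsThin ..

/-- The scheme obtained by gluing the spectra of the norm rings. -/
def NormScheme : Scheme.{u} := (glueData g R).glued

/-- Its cover. -/
def normCover : (NormScheme g R).OpenCover := (glueData g R).cover

/-- Its structure morphism. -/
def normHom : NormScheme g R ⟶ X := (glueData g R).toBase

theorem ι_normHom (U : X.affineOpens) :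
    (normCover g R).f U ≫ normHom g R = Spec.map ((normDiagramMap g R).app (op U.1)) ≫ U.2.fromSpec :=
  colimit.ι_desc _ _

theorem normHom_preimage (U : X.affineOpens) :
    normHom g R ⁻¹ᵁ U = ((normCover g R).f U).opensRange := by
  simpa using! (glueData g R).toBase_preimage_eq_opensRange_ι U

instance isAffineHom_normHom : IsAffineHom (normHom g R) := ⟨fun U hU => by
  rw [normHom_preimage g R ⟨U, hU⟩]
  haveI : IsAffine ((normCover g R).X ⟨U, hU⟩) := isAffine_Spec _
  exact isAffineOpen_opensRange _⟩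

/-- Sections over the preimage of an affine open. -/
def normObjIso {U : X.Opens} (hU : IsAffineOpen U) :
    Γ(NormScheme g R, normHom g R ⁻¹ᵁ U) ≅ (normDiagram g R).obj (op U) :=
  (NormScheme g R).presheaf.mapIso (eqToIso (show ((normCover g R).f ⟨U, hU⟩) ''ᵁ ⊤ = normHom g R ⁻¹ᵁ U by simpa using (normHom_preimage g R ⟨U, hU⟩).symm)).op ≪≫
  ((normCover g R).f ⟨U, hU⟩).appIso ⊤ ≪≫ Scheme.ΓSpecIso _

theorem normHom_app {U : X.Opens} (hU : IsAffineOpen U) :
    (normHom g R).app U = (normDiagramMap g R).app (op U) ≫ (normObjIso g R hU).inv := by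
  have : IsIso (((normCover g R).f ⟨U, hU⟩).app (normHom g R ⁻¹ᵁ U)) :=
    Scheme.Hom.isIso_app _ _ (by simp [← normHom_preimage])
  have H : ⊤ = ((normCover g R).f ⟨U, hU⟩ ≫ normHom g R) ⁻¹ᵁ U := by
    rw [ι_normHom]; simp
  rw [← cancel_mono (((normCover g R).f ⟨U, hU⟩).app (normHom g R ⁻¹ᵁ U)),
    ← Scheme.Hom.comp_app, Scheme.Hom.congr_app (ι_normHom g R ⟨U, hU⟩) U,
    ← cancel_mono (((normCover g R).X ⟨U, hU⟩).presheaf.map (eqToHom H).op)]
  dsimp [normObjIso]
  rw [IsAffineOpen.fromSpec_app_self]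
  simp only [Scheme.Hom.app_eq_appLE, Category.assoc, Scheme.Hom.map_appLE, Scheme.Hom.appLE_map]
  simp [Scheme.Hom.appLE, ← Scheme.ΓSpecIso_inv_naturality]
  rw [← ((normCover g R).X ⟨U, hU⟩).presheaf.map_comp, presheaf_map_endo]
  erw [Category.comp_id]
  exact Scheme.ΓSpecIso_inv_naturality _

/-- The inclusion of a norm ring. -/
def normIncl (U : X.Opens) : (normDiagram g R).obj (op U) ⟶ Γ((V0 g R).toScheme, (V0 g R).ι ⁻¹ᵁ U) :=
  CommRingCat.ofHom (normRing g R U).subtype

/-- The morphism from the locus with bases. -/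
def toNormScheme : (V0 g R).toScheme ⟶ NormScheme g R :=
  Scheme.OpenCover.glueMorphismsOfLocallyDirected
    ((Scheme.AffineZariskiSite.directedCover X).pullback₁ (V0 g R).ι)
    (fun U => (pullbackRestrictIsoRestrict (V0 g R).ι _).hom ≫
      ((V0 g R).ι ⁻¹ᵁ U.1).toSpecΓ ≫ Spec.map (normIncl g R U.1) ≫ (normCover g R).f U) fun {U V : X.AffineZariskiSite} i ↦ by
  have : (pullbackRestrictIsoRestrict (V0 g R).ι U.1).inv ≫
      Scheme.Cover.trans ((Scheme.AffineZariskiSite.directedCover X).pullback₁ (V0 g R).ι) i ≫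
      (pullbackRestrictIsoRestrict (V0 g R).ι V.1).hom = (V0 g R).toScheme.homOfLE
        ((V0 g R).ι.preimage_mono (Scheme.AffineZariskiSite.toOpens_mono i.1.1)) := by
    rw [← cancel_mono (Scheme.Opens.ι _)]
    simp +instances [Scheme.Cover.trans, Scheme.Cover.locallyDirectedPullbackCover]
  rw [← Iso.inv_comp_eq, reassoc_of% this, ← Scheme.Opens.toSpecΓ_SpecMap_presheaf_map_assoc,
    ← Spec.map_comp_assoc]
  dsimp [normCover]
  rw [← colimit.w (glueData g R).functor i]
  dsimp [glueData, Scheme.AffineZariskiSite.relativeGluingData]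
  rw [← Spec.map_comp_assoc]
  rfl

set_option backward.isDefEq.respectTransparency.types false in
theorem ι_toNormScheme (U : X.affineOpens) :
    ((V0 g R).ι ⁻¹ᵁ U.1).ι ≫ toNormScheme g R = ((V0 g R).ι ⁻¹ᵁ U.1).toSpecΓ ≫
      Spec.map (normIncl g R U.1) ≫ (normCover g R).f U := by
  rw [← cancel_epi (pullbackRestrictIsoRestrict (V0 g R).ι U.1).hom, ← Category.assoc]
  trans ((Scheme.AffineZariskiSite.directedCover X).pullback₁ (V0 g R).ι).f U ≫ toNormScheme g R
  · congr 1; simp
  delta toNormScheme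
  generalize_proofs _ _ _ _ H
  exact Scheme.OpenCover.map_glueMorphismsOfLocallyDirected _ _ H _

theorem toNormScheme_normHom : toNormScheme g R ≫ normHom g R = (V0 g R).ι := by
  refine Scheme.Cover.hom_ext (Scheme.openCoverOfIsOpenCover _ _
    (.comap (iSup_affineOpens_eq_top X) (V0 g R).ι.base.1)) _ _ fun U ↦ ?_
  change ((V0 g R).ι ⁻¹ᵁ U.1).ι ≫ toNormScheme g R ≫ normHom g R = _
  rw [← Category.assoc, ι_toNormScheme, Category.assoc, Category.assoc, ι_normHom, ← Spec.map_comp_assoc]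
  exact toSpecΓ_app_fromSpec (V0 g R).ι U.2

theorem le_preimage (O : X.Opens) : (V0 g R).ι ⁻¹ᵁ O ≤ toNormScheme g R ⁻¹ᵁ (normHom g R ⁻¹ᵁ O) := by
  rw [← Scheme.Hom.comp_preimage, toNormScheme_normHom]

set_option backward.isDefEq.respectTransparency.types false in
theorem toNormScheme_app_preimage (U : X.affineOpens) :
    (toNormScheme g R).app (normHom g R ⁻¹ᵁ ↑U) =
      (normObjIso g R U.2).hom ≫ normIncl g R U.1 ≫
      (V0 g R).toScheme.presheaf.map (eqToHom (show toNormScheme g R ⁻¹ᵁ (normHom g R ⁻¹ᵁ U.1) = (V0 g R).ι ⁻¹ᵁ U.1 by rw [← Scheme.Hom.comp_preimage, toNormScheme_normHom])).op := by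
  dsimp [normObjIso]
  change _ = (NormScheme g R).presheaf.map (eqToHom (show ((normCover g R).f U) ''ᵁ ⊤ = normHom g R ⁻¹ᵁ U.1 by simp [normHom_preimage])).op ≫
      (((normCover g R).f U).appIso _).hom ≫
      (Scheme.ΓSpecIso _).hom ≫
      normIncl g R U.1 ≫
      (V0 g R).toScheme.presheaf.map (eqToHom (show toNormScheme g R ⁻¹ᵁ (normHom g R ⁻¹ᵁ U.1) = (V0 g R).ι ⁻¹ᵁ U.1 by rw [← Scheme.Hom.comp_preimage, toNormScheme_normHom])).op
  have H : toNormScheme g R ⁻¹ᵁ normHom g R ⁻¹ᵁ U =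
      ((V0 g R).ι ⁻¹ᵁ U).ι ''ᵁ ((((V0 g R).ι ⁻¹ᵁ U).ι ≫ toNormScheme g R) ⁻¹ᵁ normHom g R ⁻¹ᵁ U) := by
    simp [← Scheme.Hom.comp_preimage, toNormScheme_normHom]
  convert! congr($(Scheme.Hom.congr_app (ι_toNormScheme g R U) (normHom g R ⁻¹ᵁ U)) ≫
    (V0 g R).toScheme.presheaf.map (eqToHom H).op) using 1
  · simp [Scheme.Hom.app_eq_appLE]
    rw [← X.presheaf.map_comp, presheaf_map_endo]
    exact (Category.comp_id _).symm
  dsimp
  simp only [eqToHom_op, Scheme.Hom.appIso_hom, Category.assoc, Scheme.Hom.naturality_assoc, eqToHom_unop,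
    ← Functor.map_comp_assoc, eqToHom_map (TopologicalSpace.Opens.map _), eqToHom_trans]
  congr 1
  rw [← IsIso.eq_inv_comp, ← Functor.map_inv, inv_eqToHom]
  simp [← Functor.map_comp, Scheme.Opens.toSpecΓ_appTop,
    Scheme.ΓSpecIso_naturality_assoc (normIncl g R U.1)]
  rfl

/-- Pull a function back to the locus with bases. -/
def pullV (O : X.Opens) : Γ(NormScheme g R, normHom g R ⁻¹ᵁ O) →+* Γ((V0 g R).toScheme, (V0 g R).ι ⁻¹ᵁ O) :=
  ((toNormScheme g R).appLE (normHom g R ⁻¹ᵁ O) ((V0 g R).ι ⁻¹ᵁ O) (le_preimage g R O)).hom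

theorem pullV_affine {U : X.Opens} (hU : IsAffineOpen U) (c : Γ(NormScheme g R, normHom g R ⁻¹ᵁ U)) :
    pullV g R U c = (normRing g R U).subtype ((normObjIso g R hU).hom c) := by
  have h1 : (toNormScheme g R).appLE (normHom g R ⁻¹ᵁ U) ((V0 g R).ι ⁻¹ᵁ U) (le_preimage g R U) =
      (normObjIso g R hU).hom ≫ normIncl g R U := by
    rw [Scheme.Hom.appLE, toNormScheme_app_preimage g R ⟨U, hU⟩, Category.assoc, Category.assoc]
    simp [← Functor.map_comp]
    rw [presheaf_map_endo]
    exact Category.comp_id _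
  show ((toNormScheme g R).appLE (normHom g R ⁻¹ᵁ U) ((V0 g R).ι ⁻¹ᵁ U) (le_preimage g R U)) c = _
  rw [h1]
  rfl

theorem ores_pullV {O O' : X.Opens} (le : O' ≤ O) (c : Γ(NormScheme g R, normHom g R ⁻¹ᵁ O)) :
    M1.ores ((V0 g R).ι.preimage_mono le) (pullV g R O c) =
      pullV g R O' (M1.ores ((normHom g R).preimage_mono le) c) := by
  show M1.ores _ ((toNormScheme g R).appLE _ _ _ c) = (toNormScheme g R).appLE _ _ _ _
  rw [← ConcreteCategory.comp_apply, Scheme.Hom.appLE_map, ← ConcreteCategory.comp_apply, Scheme.Hom.map_appLE]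

theorem pullV_app (O : X.Opens) (b : Γ(X, O)) :
    pullV g R O ((normHom g R).app O b) = (V0 g R).ι.app O b := by
  show ((normHom g R).app O ≫ (toNormScheme g R).appLE (normHom g R ⁻¹ᵁ O) ((V0 g R).ι ⁻¹ᵁ O) (le_preimage g R O)) b = _
  rw [← Scheme.Hom.comp_appLE]
  simp only [toNormScheme_normHom, Scheme.Hom.app_eq_appLE]

theorem pullV_injective (O : X.Opens) : Function.Injective (pullV g R O) := by
  refine (injective_iff_map_eq_zero _).2 fun c hc => ?_
  refine (NormScheme g R).sheaf.eq_of_locally_eq'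
    (fun U : {U : X.affineOpens // U.1 ≤ O} => normHom g R ⁻¹ᵁ U.1.1) _
    (fun U => homOfLE ((normHom g R).preimage_mono U.2)) (fun z hz => ?_) c 0 fun U => ?_
  · obtain ⟨U, hU, hzU, hUO⟩ := exists_isAffineOpen_mem_and_subset (U := O) (x := normHom g R z) hz
    exact Opens.mem_iSup.2 ⟨⟨⟨U, hU⟩, hUO⟩, hzU⟩
  · show M1.ores ((normHom g R).preimage_mono U.2) c = M1.ores ((normHom g R).preimage_mono U.2) 0
    rw [map_zero]
    refine (ConcreteCategory.isIso_iff_bijective (normObjIso g R U.1.2).hom).1 inferInstance |>.1 ?_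
    rw [map_zero]
    refine Subtype.ext ?_
    show (normRing g R U.1.1).subtype ((normObjIso g R U.1.2).hom _) = 0
    rw [← pullV_affine g R U.1.2, ← ores_pullV g R U.2, hc, map_zero]

theorem isReduced_normScheme [IsReduced X] : IsReduced (NormScheme g R) := by
  haveI : ∀ U, IsReduced ((normCover g R).X U) := fun U => by
    haveI : _root_.IsReduced ((normDiagram g R).obj (op U.1)) :=
      isReduced_of_injective (normRing g R U.1).subtype Subtype.val_injective
    exact inferInstanceAs (IsReduced (Spec ((normDiagram g R).obj (op U.1))))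
  exact IsReduced.of_openCover _ (normCover g R)

theorem dense_preimage_V0 [IsReduced X] : Dense ((normHom g R ⁻¹ᵁ V0 g R : (NormScheme g R).Opens) : Set (NormScheme g R)) := by
  haveI := isReduced_normScheme g R
  refine dense_iff_inter_open.2 fun O hO ⟨z, hz⟩ => ?_
  obtain ⟨U, hU, hzU, -⟩ := exists_isAffineOpen_mem_and_subset (U := (⊤ : X.Opens)) (x := normHom g R z) trivial
  obtain ⟨c, hcO, hzc⟩ := (hU.preimage (normHom g R)).exists_basicOpen_le (V := ⟨O, hO⟩) ⟨z, hz⟩ hzU
  have h0 : pullV g R U c ≠ 0 := fun h0 => by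
    rw [pullV_injective g R U (h0.trans (map_zero _).symm), Scheme.basicOpen_zero] at hzc
    exact hzc
  obtain ⟨v, hv⟩ : ((V0 g R).toScheme.basicOpen (pullV g R U c) : Set (V0 g R).toScheme).Nonempty := by
    refine Set.nonempty_iff_ne_empty.2 fun he => h0 ((basicOpen_eq_bot_iff _).1 (Opens.ext he))
  refine ⟨toNormScheme g R v, hcO ?_, ?_⟩
  · have h1 := (Scheme.basicOpen_appLE (toNormScheme g R) _ _ (le_preimage g R U) c).le hv
    exact h1.2
  · show normHom g R (toNormScheme g R v) ∈ V0 g R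
    rw [← Scheme.Hom.comp_apply, toNormScheme_normHom]
    exact v.2

theorem isFinite_normHom [IsFinite g] (hR : 0 < R) : IsFinite (normHom g R) := by
  refine (isFinite_iff _).2 ⟨inferInstance, fun U hU => ?_⟩
  rw [normHom_app g R hU]
  refine RingHom.Finite.comp (RingHom.Finite.of_surjective _
    ((ConcreteCategory.isIso_iff_bijective (normObjIso g R hU).inv).1 inferInstance).2) ?_
  exact finite_normRing hR hU

theorem isIso_over (W : X.Opens)
    (hW : ∀ U : X.Opens, IsAffineOpen U → U ≤ W → Function.Bijective ((normDiagramMap g R).app (op U)).hom) :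
    IsIso (normHom g R ∣_ W) := by
  show MorphismProperty.isomorphisms Scheme.{u} (normHom g R ∣_ W)
  rw [IsZariskiLocalAtTarget.iff_of_iSup_eq_top (P := MorphismProperty.isomorphisms Scheme.{u})
    (fun U : {U : X.affineOpens // U.1 ≤ W} => W.ι ⁻¹ᵁ U.1.1) (top_le_iff.1 fun x _ => by
      obtain ⟨U, hU, hxU, hUW⟩ := exists_isAffineOpen_mem_and_subset (U := W) x.2
      exact Opens.mem_iSup.2 ⟨⟨⟨U, hU⟩, hUW⟩, hxU⟩)]
  intro U
  have e := morphismRestrictRestrict (normHom g R) W (W.ι ⁻¹ᵁ U.1.1)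
  refine ((MorphismProperty.isomorphisms Scheme.{u}).arrow_mk_iso_iff e).2 ?_
  have himg : W.ι ''ᵁ (W.ι ⁻¹ᵁ U.1.1) = U.1.1 := by
    rw [Scheme.Hom.image_preimage_eq_opensRange_inf, Scheme.Opens.opensRange_ι, inf_eq_right]
    exact U.2
  rw [himg]
  haveI : IsAffine (U.1.1.toScheme) := U.1.2
  haveI : IsAffine (normHom g R ⁻¹ᵁ U.1.1).toScheme := U.1.2.preimage (normHom g R)
  haveI : IsIso ((normHom g R).app U.1.1) := by
    rw [normHom_app g R U.1.2]
    haveI : IsIso ((normDiagramMap g R).app (op U.1.1)) :=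
      (ConcreteCategory.isIso_iff_bijective _).2 (hW _ U.1.2 U.2)
    infer_instance
  haveI : IsIso ((normHom g R ∣_ U.1.1).app ⊤) := by
    have h1 : ∀ O : X.Opens, O = U.1.1 → IsIso ((normHom g R).app O) := fun O hO => hO ▸ inferInstance
    haveI := h1 (U.1.1.ι ''ᵁ ⊤) (by simp)
    rw [morphismRestrict_app]
    infer_instance
  exact (HasAffineProperty.iff_of_isAffine (P := MorphismProperty.isomorphisms Scheme.{u})).2 ⟨inferInstance, inferInstanceAs (IsIso ((normHom g R ∣_ U.1.1).app ⊤))⟩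

variable [IsFinite g]

/-- The norms as functions on the glued scheme. -/
theorem exists_normSec (O : X.Opens) (a : Γ(X', g ⁻¹ᵁ O)) :
    ∃ c : Γ(NormScheme g R, normHom g R ⁻¹ᵁ O), pullV g R O c = nV g R O a := by
  let val : ∀ U : {U : X.affineOpens // U.1 ≤ O}, Γ(NormScheme g R, normHom g R ⁻¹ᵁ U.1.1) := fun U =>
    (normObjIso g R U.1.2).inv (⟨nV g R U.1.1 (M1.ores (g.preimage_mono U.2) a), nV_mem_normRing _ _⟩ : normRing g R U.1.1)
  have hval : ∀ U, pullV g R _ (val U) = nV g R U.1.1 (M1.ores (g.preimage_mono U.2) a) := fun U => by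
    rw [pullV_affine g R U.1.2]
    show (((normObjIso g R U.1.2).inv ≫ (normObjIso g R U.1.2).hom) _ : normRing g R U.1.1).1 = _
    rw [Iso.inv_hom_id]
    rfl
  obtain ⟨c, hc, -⟩ := (NormScheme g R).sheaf.existsUnique_gluing'
    (fun U : {U : X.affineOpens // U.1 ≤ O} => normHom g R ⁻¹ᵁ U.1.1) (normHom g R ⁻¹ᵁ O)
    (fun U => homOfLE ((normHom g R).preimage_mono U.2)) (fun z hz => by
      obtain ⟨U, hU, hzU, hUO⟩ := exists_isAffineOpen_mem_and_subset (U := O) (x := normHom g R z) hz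
      exact Opens.mem_iSup.2 ⟨⟨⟨U, hU⟩, hUO⟩, hzU⟩) val fun U V => by
      show M1.ores ((normHom g R).preimage_mono (inf_le_left : U.1.1 ⊓ V.1.1 ≤ U.1.1)) (val U) =
        M1.ores ((normHom g R).preimage_mono (inf_le_right : U.1.1 ⊓ V.1.1 ≤ V.1.1)) (val V)
      refine pullV_injective g R _ ?_
      rw [← ores_pullV g R inf_le_left, ← ores_pullV g R inf_le_right, hval, hval, ores_nV inf_le_left,
        ores_nV inf_le_right, ores_ores, ores_ores]
  refine ⟨c, (V0 g R).toScheme.sheaf.eq_of_locally_eq'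
    (fun U : {U : X.affineOpens // U.1 ≤ O} => (V0 g R).ι ⁻¹ᵁ U.1.1) _
    (fun U => homOfLE ((V0 g R).ι.preimage_mono U.2)) (fun v hv => ?_) _ _ fun U => ?_⟩
  · obtain ⟨U, hU, hvU, hUO⟩ := exists_isAffineOpen_mem_and_subset (U := O) (x := (V0 g R).ι v) hv
    exact Opens.mem_iSup.2 ⟨⟨⟨U, hU⟩, hUO⟩, hvU⟩
  · show M1.ores ((V0 g R).ι.preimage_mono U.2) (pullV g R O c) =
      M1.ores ((V0 g R).ι.preimage_mono U.2) (nV g R O a)
    rw [ores_pullV g R U.2, ores_nV U.2, ← hval U]
    exact congrArg _ (hc U)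

/-- The norms as functions on the glued scheme. -/
def normSec (O : X.Opens) (a : Γ(X', g ⁻¹ᵁ O)) : Γ(NormScheme g R, normHom g R ⁻¹ᵁ O) :=
  (exists_normSec g R O a).choose

theorem pullV_normSec (O : X.Opens) (a : Γ(X', g ⁻¹ᵁ O)) : pullV g R O (normSec g R O a) = nV g R O a :=
  (exists_normSec g R O a).choose_spec

/-- The norm datum of the glued scheme. -/
def normSchemeDatum (hR : 0 < R) : NormDatum g (normHom g R) where
  R := R
  R_pos := hR
  N := normSec g R
  N_res W W' le a := pullV_injective g R W' (by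
    rw [← ores_pullV g R le, pullV_normSec, pullV_normSec, ores_nV le])
  N_mul W a b := pullV_injective g R W (by
    rw [map_mul, pullV_normSec, pullV_normSec, pullV_normSec, nV_mul])
  N_app W b := pullV_injective g R W (by
    rw [map_pow, pullV_normSec, nV_app, pullV_app])
  vanish W a z hz hall hmem := by
    obtain ⟨U, hU, hzU, hUW⟩ := exists_isAffineOpen_mem_and_subset (U := W) hz
    have hA := hU.preimage (normHom g R)
    let σ := normObjIso g R hU
    let z' := hA.primeIdealOf ⟨z, hzU⟩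
    let P : Ideal (normRing g R U) := z'.asIdeal.comap σ.inv.hom
    haveI : P.IsPrime := Ideal.IsPrime.comap _
    have hP : P.comap ((normDiagramMap g R).app (op U)).hom = (hU.primeIdealOf ⟨normHom g R z, hzU⟩).asIdeal := by
      have h1 : z'.asIdeal.comap ((normHom g R).app U).hom = (hU.primeIdealOf ⟨normHom g R z, hzU⟩).asIdeal := by
        refine congrArg PrimeSpectrum.asIdeal (hU.fromSpec.isOpenEmbedding.injective
          (a₁ := (⟨z'.asIdeal.comap ((normHom g R).app U).hom, inferInstance⟩ : Spec Γ(X, U))) ?_)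
        refine Eq.trans ?_ (hU.fromSpec_primeIdealOf ⟨normHom g R z, hzU⟩).symm
        show hU.fromSpec _ = normHom g R z
        refine Eq.trans ?_ (congrArg (normHom g R) (hA.fromSpec_primeIdealOf ⟨z, hzU⟩))
        rw [← Scheme.Hom.comp_apply, ← IsAffineOpen.SpecMap_appLE_fromSpec (normHom g R) hU hA le_rfl,
          Scheme.Hom.comp_apply]
        refine congrArg hU.fromSpec (PrimeSpectrum.ext ?_)
        rw [Scheme.Hom.app_eq_appLE]
        rfl
      rw [← h1, normHom_app g R hU]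
      rfl
    have h2 := nV_mem_prime hR hU hzU (M1.ores (g.preimage_mono hUW) a) (fun x' hx' h' =>
      hall x' hx' ((X'.basicOpen_res a (homOfLE (g.preimage_mono hUW)).op).le h').2) P hP
    have hN : M1.ores ((normHom g R).preimage_mono hUW) (normSec g R W a) =
        σ.inv ⟨nV g R U (M1.ores (g.preimage_mono hUW) a), nV_mem_normRing _ _⟩ := by
      refine pullV_injective g R U ?_
      rw [← ores_pullV g R hUW, pullV_normSec, ores_nV hUW, pullV_affine g R hU]
      show _ = ((σ.inv ≫ σ.hom) _ : normRing g R U).1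
      rw [Iso.inv_hom_id]
      rfl
    have h3 : z ∈ (NormScheme g R).basicOpen (M1.ores ((normHom g R).preimage_mono hUW) (normSec g R W a)) :=
      ((NormScheme g R).basicOpen_res _ (homOfLE ((normHom g R).preimage_mono hUW)).op).ge ⟨hzU, hmem⟩
    rw [hN] at h3
    have h4 : z' ∈ hA.fromSpec ⁻¹ᵁ (NormScheme g R).basicOpen
        (σ.inv ⟨nV g R U (M1.ores (g.preimage_mono hUW) a), nV_mem_normRing _ _⟩) := by
      show hA.fromSpec z' ∈ (NormScheme g R).basicOpen _
      rw [hA.fromSpec_primeIdealOf ⟨z, hzU⟩]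
      exact h3
    rw [hA.fromSpec_preimage_basicOpen] at h4
    exact h4 h2

end Groth.Agent.Norm11
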