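import Groth.Agent.Lib.Norm11.Normal

/-!
Norm data on reduced Noetherian schemes.
-/

set_option autoImplicit false

universe u

open CategoryTheory Limits AlgebraicGeometry TopologicalSpace Opposite

set_option backward.isDefEq.respectTransparency false

noncomputable section

namespace Groth.Agent.Norm11

open Groth.Agent.M1

variable {X X' : Scheme.{u}} {g : X' ⟶ X}

theorem exists_isBas_nhd' {Y : Scheme.{u}} (N : Y.Modules) (hfree : FlatMod.IsFinLocFree N) (x : Y) :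
    ∃ (T : Y.Opens) (r : ℕ) (e : Fin r → Γ(N, T)), x ∈ T ∧ P1Split.IsBas N T e := by
  obtain ⟨U, n, hxU, ⟨φ⟩⟩ := hfree x
  have h1 := (P1Split.isBas_coprod (fun _ : Fin n => Coh.structureModule (U : Scheme.{u}))
    (fun _ => one ⊤) fun _ => P1Split.isGen_one ⊤).map_iso φ.symm
  have h2 := P1Split.isBas_of_restrict U.ι _ h1
  exact ⟨U.ι ''ᵁ ⊤, n, _, ⟨⟨x, hxU⟩, trivial, rfl⟩, h2⟩

theorem exists_isBas_le (M : X.Modules) (T₀ : X.Opens)
    (hfree : FlatMod.IsFinLocFree (M.restrict T₀.ι)) {x : X} (hx : x ∈ T₀) :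
    ∃ (T : X.Opens) (r : ℕ) (e : Fin r → Γ(M, T)), x ∈ T ∧ T ≤ T₀ ∧ P1Split.IsBas M T e := by
  obtain ⟨T, r, e, hxT, he⟩ := exists_isBas_nhd' (M.restrict T₀.ι) hfree ⟨x, hx⟩
  refine ⟨T₀.ι ''ᵁ T, r, _, ⟨⟨x, hx⟩, hxT, rfl⟩, ?_, P1Split.isBas_of_restrict T₀.ι M he⟩
  rintro _ ⟨z, -, rfl⟩
  exact z.2
theorem exists_isABas_of_restrict (T₀ : X.Opens)
    (hfree : FlatMod.IsFinLocFree (((Coh.push g).obj (Coh.structureModule X')).restrict T₀.ι)) {x : X} (hx : x ∈ T₀) :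
    ∃ (T : X.Opens) (r : ℕ) (e : Fin r → Γ(X', g ⁻¹ᵁ T)), x ∈ T ∧ T ≤ T₀ ∧ IsABas g T e := by
  obtain ⟨T, r, e, h1, h2, h3⟩ := exists_isBas_le _ T₀ hfree hx
  exact ⟨T, r, _, h1, h2, isABas_of_isBas h3⟩

theorem exists_R [IsNoetherian X] [Surjective g] :
    ∃ R : ℕ, 0 < R ∧ ∀ (T : X.Opens) (r : ℕ) (e : Fin r → Γ(X', g ⁻¹ᵁ T)), IsABas g T e → ∀ y ∈ T,
      ∃ i : Good g R ⊤, y ∈ i.T := by
  classical
  let κ := Σ' (T : X.Opens) (r : ℕ) (e : Fin r → Γ(X', g ⁻¹ᵁ T)), PLift (IsABas g T e ∧ (T : Set X).Nonempty)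
  let U : κ → Set X := fun k => (k.1 : Set X)
  obtain ⟨s, hs⟩ := (NoetherianSpace.isCompact (⋃ k, U k)).elim_finite_subcover U (fun k => k.1.2) subset_rfl
  have hpos : ∀ k ∈ s, 0 < k.2.1 := fun k _ => k.2.2.2.down.1.pos k.2.2.2.down.2.choose_spec
  refine ⟨∏ k ∈ s, k.2.1, Finset.prod_pos hpos, fun T r e he y hy => ?_⟩
  obtain ⟨k, hk, hyk⟩ := Set.mem_iUnion₂.1 (hs (Set.mem_iUnion.2 ⟨⟨T, r, e, ⟨he, y, hy⟩⟩, hy⟩))
  exact ⟨⟨k.1, le_top, k.2.1, hpos k hk, Finset.dvd_prod_of_mem _ hk, k.2.2.1, k.2.2.2.down.1⟩, hyk⟩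

/-- Existence of a section satisfying the norm condition near a good point. -/
theorem exists_norm_good {R : ℕ} {W : X.Opens} (a : Γ(X', g ⁻¹ᵁ W)) (i₀ : Good g R W) :
    IsNorm g (𝟙 X) R i₀.T (M1.ores (g.preimage_mono i₀.le) a)
      (nrm g i₀.T (M1.ores (g.preimage_mono i₀.le) a) ^ (R / i₀.r)) := fun i => by
  show M1.ores i.le (nrm g i₀.T (M1.ores (g.preimage_mono i₀.le) a) ^ (R / i₀.r)) = nrm g i.T _ ^ (R / i.r)
  rw [map_pow, i₀.bas.ores_nrm i.le]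
  rcases (i₀.bas.ores i.le).rank_eq i.bas with h | h
  · rw [h]
  · exact h _ _

theorem uniq_of_dense [IsReduced X] {R : ℕ}
    (hd : ∀ U : X.Opens, (U : Set X).Nonempty → ∃ i : Good g R ⊤, ((U : Set X) ∩ i.T).Nonempty)
    (W : X.Opens) (c c' : Γ(X, W)) (H : ∀ i : Good g R W, M1.ores i.le c = M1.ores i.le c') : c = c' :=
    eq_of_dense c c' (fun i : Good g R W => i.T) (fun i => i.le) (fun O hO hne => by
      obtain ⟨i, y, hyO, hyT⟩ := hd O hne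
      exact ⟨⟨i.T ⊓ W, inf_le_right, i.r, i.pos, i.dvd, _, i.bas.ores inf_le_left⟩, y, hyO, hyT, hO hyO⟩) H

theorem exists_norm_local [IsReduced X] [IsLocallyNoetherian X] [IsFinite g] [Surjective g] {R : ℕ} (hR : 0 < R)
    (hcov : ∀ (T : X.Opens) (r : ℕ) (e : Fin r → Γ(X', g ⁻¹ᵁ T)), IsABas g T e → ∀ y ∈ T,
      ∃ i : Good g R ⊤, y ∈ i.T)
    (hd : ∀ U : X.Opens, (U : Set X).Nonempty → ∃ i : Good g R ⊤, ((U : Set X) ∩ i.T).Nonempty)
    (W : X.Opens) (a : Γ(X', g ⁻¹ᵁ W)) (x : X) (hx : x ∈ W)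
    (hW : (IsDomain (X.presheaf.stalk x) ∧ IsIntegrallyClosed (X.presheaf.stalk x)) ∨
      ∃ T : X.Opens, x ∈ T ∧ FlatMod.IsFinLocFree (((Coh.push g).obj (Coh.structureModule X')).restrict T.ι)) :
    ∃ (V : X.Opens) (hV : V ≤ W) (c : Γ(X, V)),
      x ∈ V ∧ IsNorm g (𝟙 X) R V (M1.ores (g.preimage_mono hV) a) c ∧
        ((∀ x' : X', g x' = x → x' ∉ X'.basicOpen a) → x ∉ X.basicOpen c) := by
  by_cases hgood : ∃ i : Good g R W, x ∈ i.T
  · obtain ⟨i, hi⟩ := hgood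
    refine ⟨i.T, i.le, _, hi, exists_norm_good a i, fun hall => (exists_norm_good a i).notMem (h := 𝟙 X) hR
      (⟨i.T, le_rfl, i.r, i.pos, i.dvd, i.e, i.bas⟩ : Good g R i.T) (z := x) hi fun x' hx' hmem => ?_⟩
    exact hall x' hx' ((X'.basicOpen_res a (homOfLE (g.preimage_mono i.le)).op).le hmem).2
  · rcases hW with ⟨h1, h2⟩ | ⟨T, hxT, hT⟩
    · exact exists_norm_near hR hd hx a
    · exfalso
      obtain ⟨T', r, e, hxT', -, he⟩ := exists_isABas_of_restrict T hT hxT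
      obtain ⟨i, hi⟩ := hcov T' r e he x hxT'
      exact hgood ⟨⟨i.T ⊓ W, inf_le_right, i.r, i.pos, i.dvd, _, i.bas.ores inf_le_left⟩, hi, hx⟩

theorem exists_isNorm [IsReduced X] [IsLocallyNoetherian X] [IsFinite g] [Surjective g] {R : ℕ} (hR : 0 < R)
    (hcov : ∀ (T : X.Opens) (r : ℕ) (e : Fin r → Γ(X', g ⁻¹ᵁ T)), IsABas g T e → ∀ y ∈ T,
      ∃ i : Good g R ⊤, y ∈ i.T)
    (hd : ∀ U : X.Opens, (U : Set X).Nonempty → ∃ i : Good g R ⊤, ((U : Set X) ∩ i.T).Nonempty)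
    (W : X.Opens)
    (hW : ∀ x ∈ W, (IsDomain (X.presheaf.stalk x) ∧ IsIntegrallyClosed (X.presheaf.stalk x)) ∨
      ∃ T : X.Opens, x ∈ T ∧ FlatMod.IsFinLocFree (((Coh.push g).obj (Coh.structureModule X')).restrict T.ι))
    (a : Γ(X', g ⁻¹ᵁ W)) : ∃ c, IsNorm g (𝟙 X) R W a c := by
  have huniq := uniq_of_dense (g := g) hd
  choose V hV c hxV hc _ using fun x : W => exists_norm_local hR hcov hd W a x.1 x.2 (hW x.1 x.2)
  obtain ⟨C, hC, -⟩ := X.sheaf.existsUnique_gluing' V W (fun x => homOfLE (hV x))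
    (fun x hx => Opens.mem_iSup.2 ⟨⟨x, hx⟩, hxV ⟨x, hx⟩⟩) c fun x y => by
      refine huniq _ _ _ fun i => ?_
      have e1 := ((hc x).res (inf_le_left : V x ⊓ V y ≤ V x)) i
      have e2 := ((hc y).res (inf_le_right : V x ⊓ V y ≤ V y)) i
      rw [ores_ores (X := X') (g.preimage_mono (hV x))] at e1
      rw [ores_ores (X := X') (g.preimage_mono (hV y))] at e2
      exact e1.trans e2.symm
  refine ⟨C, fun i => ?_⟩
  refine huniq _ _ _ fun j => ?_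
  show M1.ores j.le (M1.ores i.le C) = M1.ores j.le (nrm g i.T _ ^ (R / i.r))
  refine eq_of_dense _ _ (fun x : W => j.T ⊓ V x) (fun _ => inf_le_left) (fun O hO hne => ?_) fun x => ?_
  · obtain ⟨y, hy⟩ := hne
    exact ⟨⟨y, i.le (j.le (hO hy))⟩, y, hy, hO hy, hxV _⟩
  · simp only [ores_ores, map_pow]
    have hj : j.T ⊓ V x ≤ V x := inf_le_right
    have h1 := (hc x) ⟨j.T ⊓ V x, hj, j.r, j.pos, j.dvd, _, j.bas.ores inf_le_left⟩
    have h2 : M1.ores ((inf_le_left.trans j.le).trans i.le) C = M1.ores hj (c x) := by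
      rw [← show M1.ores (hV x) C = c x from hC x, ores_ores]
    refine Eq.trans (Eq.trans (ores_ores _ _ _) h2) ?_
    refine Eq.trans h1 ?_
    show nrm g _ _ ^ (R / j.r) = _
    simp only [ores_ores]
    erw [i.bas.ores_nrm (inf_le_left.trans j.le)]
    rw [ores_ores]
    rcases (i.bas.ores ((inf_le_left : j.T ⊓ V x ≤ j.T).trans j.le)).rank_eq
      (j.bas.ores (inf_le_left : j.T ⊓ V x ≤ j.T)) with h | h
    · rw [h]
    · exact h _ _


/-- A norm datum when every point has a free neighbourhood or is normal. -/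
theorem exists_normDatum_normal [IsNoetherian X] [IsReduced X] [IsFinite g] [Surjective g]
    (hW : ∀ x : X, (IsDomain (X.presheaf.stalk x) ∧ IsIntegrallyClosed (X.presheaf.stalk x)) ∨
      ∃ T : X.Opens, x ∈ T ∧ FlatMod.IsFinLocFree (((Coh.push g).obj (Coh.structureModule X')).restrict T.ι)) :
    Nonempty (NormDatum g (𝟙 X)) := by
  classical
  obtain ⟨R, hR, hcov⟩ := exists_R (g := g)
  have hd : ∀ U : X.Opens, (U : Set X).Nonempty → ∃ i : Good g R ⊤, ((U : Set X) ∩ i.T).Nonempty := fun U hU => by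
    obtain ⟨T, r, e, ⟨y, hyU, hyT⟩, he⟩ := exists_isABas_meet (g := g) hU
    obtain ⟨i, hi⟩ := hcov T r e he y hyT
    exact ⟨i, y, hyU, hi⟩
  refine ⟨normDatumOf hR (uniq_of_dense hd) (fun W a => exists_isNorm hR hcov hd W (fun x _ => hW x) a)
    fun W a z hz hall c hc hmem => ?_⟩
  obtain ⟨V, hV, c', hzV, hc', hvan⟩ := exists_norm_local hR hcov hd W a z hz (hW z)
  have he : M1.ores hV c = c' := uniq_of_dense hd V _ _ fun i => ((hc.res hV) i).trans (hc' i).symm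
  refine hvan hall ?_
  rw [← he]
  exact (X.basicOpen_res c (homOfLE hV).op).ge ⟨hzV, hmem⟩

end Groth.Agent.Norm11
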