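import Groth.Agent.Lib.Ample18.Avoid
import Groth.Agent.Lib.Twist.Gen
import Mathlib.AlgebraicGeometry.Morphisms.QuasiFinite

/-!
Norms along a morphism, and descent of ampleness along a morphism with norms.
-/

set_option autoImplicit false

universe u

open CategoryTheory Limits AlgebraicGeometry TopologicalSpace Opposite

set_option backward.isDefEq.respectTransparency false

noncomputable section

namespace Groth.Agent.Norm11

open Groth.Agent.M1
open Groth.Agent.M2 (tsec pullSec IsGenerator)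

variable {X X' Z : Scheme.{u}}

/-- Multiplicative norms from functions on `X'` to functions on `Z`, over `X`, homogeneous of degree
`R`. -/
structure NormDatum (g : X' ⟶ X) (h : Z ⟶ X) where
  R : ℕ
  R_pos : 0 < R
  N : ∀ W : X.Opens, Γ(X', g ⁻¹ᵁ W) → Γ(Z, h ⁻¹ᵁ W)
  N_res : ∀ (W W' : X.Opens) (le : W' ≤ W) (a : Γ(X', g ⁻¹ᵁ W)),
    ores (h.preimage_mono le) (N W a) = N W' (ores (g.preimage_mono le) a)
  N_mul : ∀ (W : X.Opens) (a b : Γ(X', g ⁻¹ᵁ W)), N W (a * b) = N W a * N W b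
  N_app : ∀ (W : X.Opens) (b : Γ(X, W)), N W (g.app W b) = (h.app W b) ^ R
  vanish : ∀ (W : X.Opens) (a : Γ(X', g ⁻¹ᵁ W)) (z : Z), h z ∈ W →
    (∀ x' : X', g x' = h z → x' ∉ X'.basicOpen a) → z ∉ Z.basicOpen (N W a)

variable {g : X' ⟶ X} {h : Z ⟶ X}

theorem NormDatum.isUnit (D : NormDatum g h) (W : X.Opens) {a : Γ(X', g ⁻¹ᵁ W)} (ha : IsUnit a) :
    IsUnit (D.N W a) := by
  obtain ⟨b, hb⟩ := isUnit_iff_exists_inv.1 ha
  refine isUnit_iff_exists_inv.2 ⟨D.N W b, ?_⟩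
  rw [← D.N_mul, hb, ← map_one (g.app W).hom]
  exact (D.N_app W 1).trans (by rw [map_one, one_pow])

theorem NormDatum.mem_basicOpen (D : NormDatum g h) [UniversallyClosed g] (W : X.Opens)
    (a : Γ(X', g ⁻¹ᵁ W)) {z : Z} (hz : h z ∈ W)
    (hall : ∀ x' : X', g x' = h z → x' ∈ X'.basicOpen a) : z ∈ Z.basicOpen (D.N W a) := by
  have hC : IsClosed (g '' ((X'.basicOpen a : Set X')ᶜ)) :=
    g.isClosedMap _ (X'.basicOpen a).2.isClosed_compl
  let W' : X.Opens := W ⊓ ⟨_, hC.isOpen_compl⟩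
  have hle : g ⁻¹ᵁ W' ≤ X'.basicOpen a := fun x hx => by
    by_contra hcon
    exact hx.2 ⟨x, hcon, rfl⟩
  have hzW' : z ∈ h ⁻¹ᵁ W' := ⟨hz, fun ⟨x', hx', e⟩ => hx' (hall x' e)⟩
  have hu : IsUnit (ores (g.preimage_mono (inf_le_left : W' ≤ W)) a) := by
    have := (RingedSpace.isUnit_res_basicOpen X'.toRingedSpace a)
    rw [show ores (g.preimage_mono (inf_le_left : W' ≤ W)) a =
      ores hle (ores (X'.basicOpen_le a) a) from (ores_ores _ _ _).symm]
    exact this.map _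
  have h1 := D.isUnit W' hu
  rw [← D.N_res W W' inf_le_left] at h1
  have h2 : Z.basicOpen (ores (h.preimage_mono (inf_le_left : W' ≤ W)) (D.N W a)) = h ⁻¹ᵁ W' :=
    Scheme.basicOpen_of_isUnit _ h1
  exact (inf_le_right : _ ⊓ Z.basicOpen (D.N W a) ≤ _)
    ((Z.basicOpen_res (D.N W a) (homOfLE (h.preimage_mono (inf_le_left : W' ≤ W))).op).le
      (h2.ge hzW'))

theorem mres_pullSec (f : Z ⟶ X) {M : X.Modules} {U V : X.Opens} (le : V ≤ U) (s : Γ(M, U)) :
    mres ((Scheme.Modules.pullback f).obj M) (f.preimage_mono le) (pullSec f M s) =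
      pullSec f M (mres M le s) :=
  (app_mres ((Scheme.Modules.pullbackPushforwardAdjunction f).unit.app M) le s).symm

theorem gen_gm_iff {M : X.Modules} {U : X.Opens} {e : Γ(M, U)} (he : IsGenerator e) (a : Γ(X, U)) {x : X}
    (hx : x ∈ U) : Amp.Gen (Amp.gm M x hx (a • e)) ↔ x ∈ X.basicOpen a := by
  rw [Amp.gm_smul, (Amp.gen_of_isGenerator he hx).ne_zero_smul]
  exact (Scheme.mem_basicOpen X a x hx).symm

/-- The norm of a section. -/
theorem exists_norm_sec (D : NormDatum g h) [UniversallyClosed g] {M : X.Modules} (hM : PicF.IsInvertible M)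
    (t : Γ((Scheme.Modules.pullback g).obj M, ⊤)) :
    ∃ s : Γ((Scheme.Modules.pullback h).obj (CohB1.tensorPow M D.R), ⊤), ∀ z : Z,
      ((∀ x' : X', g x' = h z → Amp.Gen (Amp.gm _ x' (U := ⊤) trivial t)) →
        Amp.Gen (Amp.gm _ z (U := ⊤) trivial s)) ∧
      ((∀ x' : X', g x' = h z → ¬ Amp.Gen (Amp.gm _ x' (U := ⊤) trivial t)) →
        ¬ Amp.Gen (Amp.gm _ z (U := ⊤) trivial s)) := by
  let MR := CohB1.tensorPow M D.R
  let Q := (Scheme.Modules.pullback h).obj MR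
  choose W e hxW h₁ h₂ he using fun x : X => Amp.exists_isGenerator hM (V := ⊤) (x := x) trivial
  have hge : ∀ (V : X.Opens) (c : Γ(M, V)), IsGenerator c → IsGenerator (pullSec g M c) :=
    fun V c hc => Twist.IsGen.pullback g hc
  have ha : ∀ x, ∃ a : Γ(X', g ⁻¹ᵁ W x),
      a • pullSec g M (e x) = mres ((Scheme.Modules.pullback g).obj M) le_top t :=
    fun x => Amp.exists_coeff (hge _ _ (he x)) _
  choose a ha using ha
  let sx : ∀ x, Γ(Q, h ⁻¹ᵁ W x) := fun x => D.N (W x) (a x) • pullSec h MR (Amp.pw (e x) D.R)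
  have hcompat : ∀ x y, mres Q (inf_le_left : h ⁻¹ᵁ W x ⊓ h ⁻¹ᵁ W y ≤ h ⁻¹ᵁ W x) (sx x) =
      mres Q (inf_le_right : h ⁻¹ᵁ W x ⊓ h ⁻¹ᵁ W y ≤ h ⁻¹ᵁ W y) (sx y) := by
    intro x y
    let V := W x ⊓ W y
    have hVx : V ≤ W x := inf_le_left
    have hVy : V ≤ W y := inf_le_right
    have hex : IsGenerator (mres M hVx (e x)) := Amp.isGenerator_res hVx (he x)
    obtain ⟨b, hb⟩ := Amp.exists_coeff hex (mres M hVy (e y))
    have h1 : ores (g.preimage_mono hVx) (a x) = ores (g.preimage_mono hVy) (a y) * g.app V b := by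
      refine ((hge _ _ hex) (g ⁻¹ᵁ V) le_rfl).1 ?_
      simp only [mres_id]
      have hx' := congrArg (mres ((Scheme.Modules.pullback g).obj M) (g.preimage_mono hVx)) (ha x)
      have hy' := congrArg (mres ((Scheme.Modules.pullback g).obj M) (g.preimage_mono hVy)) (ha y)
      rw [mres_smul, mres_mres, mres_pullSec g hVx] at hx'
      rw [mres_smul, mres_mres, mres_pullSec g hVy] at hy'
      rw [← hb, M2.pullSec_smul, smul_smul] at hy'
      exact hx'.trans hy'.symm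
    show mres Q (h.preimage_mono hVx) (sx x) = mres Q (h.preimage_mono hVy) (sx y)
    simp only [sx]
    rw [mres_smul, mres_smul, D.N_res (W x) V hVx, D.N_res (W y) V hVy, h1, D.N_mul, D.N_app,
      mres_pullSec h hVx, mres_pullSec h hVy,
      show mres MR hVy (Amp.pw (e y) D.R) = Amp.pw (mres M hVy (e y)) D.R from Amp.res_pw hVy _ _,
      show mres MR hVx (Amp.pw (e x) D.R) = Amp.pw (mres M hVx (e x)) D.R from Amp.res_pw hVx _ _,
      ← hb, Amp.pw_smul, M2.pullSec_smul, map_pow, smul_smul]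
  obtain ⟨s, hs, -⟩ := TopCat.Sheaf.existsUnique_gluing' ⟨_, Q.isSheaf⟩ (fun x => h ⁻¹ᵁ W x) (⊤ : Z.Opens)
    (fun _ => homOfLE le_top) (fun z _ => Opens.mem_iSup.2 ⟨h z, hxW (h z)⟩) sx hcompat
  refine ⟨s, fun z => ?_⟩
  have hz : z ∈ h ⁻¹ᵁ W (h z) := hxW (h z)
  have hes : IsGenerator (pullSec h MR (Amp.pw (e (h z)) D.R)) := by
    refine Twist.isGen_of_stalk fun w hw => ?_
    exact (Amp.gen_pullSec_iff h (M2.isInvertible_tensorPow hM _) hw _).2
      (Amp.gen_pw hM hw _ _ (Amp.gen_of_isGenerator (he (h z)) hw))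
  have hsz : Amp.Gen (Amp.gm Q z (U := ⊤) trivial s) ↔ z ∈ Z.basicOpen (D.N _ (a (h z))) := by
    rw [← gen_gm_iff hes (D.N _ (a (h z))) hz, ← Amp.gm_res (le_top : h ⁻¹ᵁ W (h z) ≤ ⊤) hz,
      show M2.res Q le_top s = sx (h z) from hs (h z)]
  have htx : ∀ x' : X', g x' = h z →
      (Amp.Gen (Amp.gm _ x' (U := ⊤) trivial t) ↔ x' ∈ X'.basicOpen (a (h z))) := fun x' hx' => by
    have hx'W : x' ∈ g ⁻¹ᵁ W (h z) := by show g x' ∈ W (h z); rw [hx']; exact hxW _
    rw [← gen_gm_iff (hge _ _ (he (h z))) (a (h z)) hx'W, ha, Amp.gm_res]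
  refine ⟨fun H => hsz.2 (D.mem_basicOpen _ _ hz fun x' hx' => (htx x' hx').1 (H x' hx')),
    fun H h' => D.vanish _ (a (h z)) z hz (fun x' hx' hmem => H x' hx' ((htx x' hx').2 hmem)) (hsz.1 h')⟩

/-- Ampleness descends along a finite morphism with norms. -/
theorem isAmple_of_normDatum (D : NormDatum g h) [IsFinite g] [IsAffineHom h] [CompactSpace X]
    {L : X.Modules} (hL : PicF.IsInvertible L)
    (hA : CohB1.IsAmple ((Scheme.Modules.pullback g).obj L)) :
    CohB1.IsAmple ((Scheme.Modules.pullback h).obj L) := by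
  haveI : CompactSpace Z := QuasiCompact.compactSpace_of_compactSpace h
  refine Amp.isAmple_iff.2 ⟨PicLoc.isInvertible_pullback h hL, inferInstance, fun z => ?_⟩
  obtain ⟨V, hV, hzV, -⟩ := exists_isAffineOpen_mem_and_subset (U := (⊤ : X.Opens)) (x := h z) trivial
  obtain ⟨n, G, ⟨s', rfl⟩, hZG, hGV, -⟩ := Amp.exists_affine_hasSec_finite hA
    (IsFinite.finite_preimage_singleton g (h z)) (U := g ⁻¹ᵁ V)
    (fun x' hx' => by show g x' ∈ V; rw [show g x' = h z from hx']; exact hzV)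
  let M := CohB1.tensorPow L (n + 1)
  have hM : PicF.IsInvertible M := M2.isInvertible_tensorPow hL (n + 1)
  let ι := M2.pullTensorPowIso g L (n + 1)
  have hG : CohB1.genLocus _ (s' ≫ ι.inv) = CohB1.genLocus _ s' := Amp.genLocus_comp_iso ι.symm s'
  obtain ⟨s, hs⟩ := exists_norm_sec D hM (Amp.gval (s' ≫ ι.inv))
  have hgen : ∀ x' : X', Amp.Gen (Amp.gm _ x' (U := ⊤) trivial (Amp.gval (s' ≫ ι.inv))) ↔
      x' ∈ CohB1.genLocus _ s' := fun x' => by
    rw [← Amp.mem_genLocus_iff (PicLoc.isInvertible_pullback g hM), hG]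
  let Q := (Scheme.Modules.pullback h).obj (CohB1.tensorPow M D.R)
  have hQ : PicF.IsInvertible Q := PicLoc.isInvertible_pullback h (M2.isInvertible_tensorPow hM _)
  let G' := CohB1.genLocus Q (M1.secHom s)
  have hmem : ∀ w, w ∈ G' ↔ Amp.Gen (Amp.gm Q w (U := ⊤) trivial s) := fun w => by
    rw [Amp.mem_genLocus_iff hQ, Amp.gval_secHom]
  have hSec : Amp.HasSec ((Scheme.Modules.pullback h).obj L) ((n + 1) * D.R) G' :=
    Amp.HasSec.of_tensorPow ((Amp.hasSec_of_iso (M2.pullTensorPowIso h M D.R) (M1.secHom s)).map_iso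
      (M2.pullTensorPowIso h L (n + 1)))
  have hGV' : G' ≤ h ⁻¹ᵁ V := fun w hw => by
    by_contra hcon
    exact (hs w).2 (fun x' hx' hgen' => hcon (by
      show h w ∈ V
      rw [← hx']
      exact hGV ((hgen x').1 hgen'))) ((hmem w).1 hw)
  refine ⟨(n + 1) * D.R - 1, G',
    hSec.of_eq (Nat.sub_add_cancel (Nat.mul_pos n.succ_pos D.R_pos)).symm,
    (hmem z).2 ((hs z).1 fun x' hx' => (hgen x').2 (hZG hx')), ?_⟩
  have := Amp.isAffineOpen_inf_hasSec (PicLoc.isInvertible_pullback h hL) hSec (hV.preimage h)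
  rwa [inf_eq_left.2 hGV'] at this

end Groth.Agent.Norm11
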