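import Groth.Agent.Lib.Norm11.Restrict
import Groth.Agent.Lib.ModM1.Coh
import Groth.Agent.Lib.ModM1.Push
import Mathlib.AlgebraicGeometry.Noetherian
import Mathlib.RingTheory.Localization.AtPrime.Basic

/-!
The locus where the direct image of the structure sheaf is free is dense.
-/

set_option autoImplicit false

universe u

open CategoryTheory Limits AlgebraicGeometry TopologicalSpace Opposite

set_option backward.isDefEq.respectTransparency false

noncomputable section

namespace Groth.Agent.Norm11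

open Groth.Agent.M1

/-- Near a prime with domain local ring a Noetherian ring is a domain. -/
theorem exists_isDomain_away {A : Type u} [CommRing A] [IsNoetherianRing A] (p : Ideal A) [p.IsPrime]
    [IsDomain (Localization.AtPrime p)] : ∃ f ∉ p, IsDomain (Localization.Away f) := by
  classical
  obtain ⟨G, hG⟩ := IsNoetherian.noetherian (RingHom.ker (algebraMap A (Localization.AtPrime p)))
  have hs : ∀ x ∈ G, ∃ s : p.primeCompl, (s : A) * x = 0 := fun x hx =>
    (IsLocalization.map_eq_zero_iff p.primeCompl (Localization.AtPrime p) x).1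
      (RingHom.mem_ker.1 (hG ▸ Submodule.subset_span hx))
  choose s hs using hs
  let f : A := ∏ x ∈ G.attach, (s x.1 x.2 : A)
  have hf : f ∈ p.primeCompl := prod_mem fun x _ => (s x.1 x.2).2
  refine ⟨f, hf, ?_⟩
  have hker : RingHom.ker (algebraMap A (Localization.AtPrime p)) ≤
      RingHom.ker (algebraMap A (Localization.Away f)) := by
    rw [← hG]
    refine Ideal.span_le.2 fun x hx => ?_
    refine (IsLocalization.map_eq_zero_iff (Submonoid.powers f) (Localization.Away f) x).2
      ⟨⟨f, 1, pow_one f⟩, ?_⟩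
    show f * x = 0
    rw [show f = (s x hx : A) * ∏ y ∈ G.attach.erase ⟨x, hx⟩, (s y.1 y.2 : A) from
      (Finset.mul_prod_erase _ (fun y : {y // y ∈ G} => (s y.1 y.2 : A)) (Finset.mem_attach G ⟨x, hx⟩)).symm]
    rw [mul_right_comm, hs, zero_mul]
  have hunit : IsUnit (algebraMap A (Localization.AtPrime p) f) := IsLocalization.map_units _ ⟨f, hf⟩
  let φ : Localization.Away f →+* Localization.AtPrime p := IsLocalization.Away.lift f hunit
  have hinj : Function.Injective φ := by
    refine (injective_iff_map_eq_zero φ).2 fun z hz => ?_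
    obtain ⟨⟨a, t⟩, hat⟩ := IsLocalization.surj (Submonoid.powers f) z
    have h1 : algebraMap A (Localization.AtPrime p) a = 0 := by
      rw [← IsLocalization.Away.lift_eq (S := Localization.Away f) f hunit a]
      show φ (algebraMap A _ a) = 0
      rw [← hat, map_mul, hz, zero_mul]
    have h2 : algebraMap A (Localization.Away f) a = 0 := hker h1
    exact (IsLocalization.map_units (Localization.Away f) t).mul_left_eq_zero.1 (hat.trans h2)
  exact hinj.isDomain φ

theorem isDomain_localization_of_minimal {A : Type u} [CommRing A] [IsReduced A] {q : Ideal A}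
    (hq : q ∈ minimalPrimes A) : haveI := Ideal.minimalPrimes_isPrime hq; IsDomain (Localization.AtPrime q) := by
  haveI := Ideal.minimalPrimes_isPrime hq
  haveI := IsLocalization.subsingleton_primeSpectrum_of_mem_minimalPrimes q hq (Localization.AtPrime q)
  haveI : IsReduced (Localization.AtPrime q) :=
    isReduced_localizationPreserves q.primeCompl (Localization.AtPrime q) inferInstance
  let m : PrimeSpectrum (Localization.AtPrime q) :=
    ⟨IsLocalRing.maximalIdeal _, inferInstance⟩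
  have hbot : IsLocalRing.maximalIdeal (Localization.AtPrime q) = ⊥ := by
    refine le_bot_iff.1 fun x hx => ?_
    have : x ∈ nilradical (Localization.AtPrime q) := by
      rw [nilradical_eq_sInf]
      refine Submodule.mem_sInf.2 fun J hJ => ?_
      have := congrArg PrimeSpectrum.asIdeal (Subsingleton.elim m ⟨J, hJ⟩)
      exact this.le hx
    exact (mem_nilradical.1 this).eq_zero
  haveI : (⊥ : Ideal (Localization.AtPrime q)).IsPrime := hbot ▸ inferInstance
  exact IsDomain.of_bot_isPrime _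

variable {X : Scheme.{u}}

/-- An affine neighbourhood which is a domain. -/
theorem exists_affine_isDomain [IsLocallyNoetherian X] {W : X.Opens} {x : X} (hx : x ∈ W)
    [IsDomain (X.presheaf.stalk x)] :
    ∃ U : X.Opens, IsAffineOpen U ∧ x ∈ U ∧ U ≤ W ∧ IsDomain Γ(X, U) := by
  obtain ⟨V, hV, hxV, hVW⟩ := exists_isAffineOpen_mem_and_subset (U := W) hx
  haveI := IsLocallyNoetherian.component_noetherian (X := X) ⟨V, hV⟩
  let := TopCat.Presheaf.algebra_section_stalk X.presheaf (⟨x, hxV⟩ : V)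
  haveI := hV.isLocalization_stalk ⟨x, hxV⟩
  let p := (hV.primeIdealOf ⟨x, hxV⟩).asIdeal
  haveI : IsDomain (Localization.AtPrime p) :=
    MulEquiv.isDomain (X.presheaf.stalk x)
      (IsLocalization.algEquiv p.primeCompl (Localization.AtPrime p) (X.presheaf.stalk x)).toRingEquiv.toMulEquiv
  obtain ⟨f, hf, hdom⟩ := exists_isDomain_away p
  refine ⟨X.basicOpen f, hV.basicOpen f, ?_, (X.basicOpen_le f).trans hVW, ?_⟩
  · have h1 : hV.primeIdealOf ⟨x, hxV⟩ ∈ hV.fromSpec ⁻¹ᵁ X.basicOpen f := by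
      rw [hV.fromSpec_preimage_basicOpen]
      exact hf
    have h2 : hV.fromSpec (hV.primeIdealOf ⟨x, hxV⟩) ∈ X.basicOpen f := h1
    rwa [hV.fromSpec_primeIdealOf ⟨x, hxV⟩] at h2
  · haveI := hV.isLocalization_basicOpen f
    exact MulEquiv.isDomain (Localization.Away f)
      (IsLocalization.algEquiv (Submonoid.powers f) Γ(X, X.basicOpen f) (Localization.Away f)).toRingEquiv.toMulEquiv

/-- A nonempty open contains a nonempty affine open which is a domain. -/
theorem exists_affine_isDomain_nonempty [IsLocallyNoetherian X] [IsReduced X] {W : X.Opens}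
    (hW : (W : Set X).Nonempty) :
    ∃ U : X.Opens, IsAffineOpen U ∧ (U : Set X).Nonempty ∧ U ≤ W ∧ IsDomain Γ(X, U) := by
  obtain ⟨x₀, hx₀⟩ := hW
  obtain ⟨V, hV, hxV, hVW⟩ := exists_isAffineOpen_mem_and_subset (U := W) hx₀
  obtain ⟨q, hq, -⟩ := Ideal.exists_minimalPrimes_le (J := (hV.primeIdealOf ⟨x₀, hxV⟩).asIdeal) (I := ⊥) bot_le
  haveI := Ideal.minimalPrimes_isPrime hq
  let x : X := hV.fromSpec ⟨q, inferInstance⟩
  have hxV' : x ∈ V := by
    rw [← SetLike.mem_coe, ← hV.range_fromSpec]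
    exact ⟨_, rfl⟩
  let := TopCat.Presheaf.algebra_section_stalk X.presheaf (⟨x, hxV'⟩ : V)
  haveI := hV.isLocalization_stalk ⟨x, hxV'⟩
  have hp : (hV.primeIdealOf ⟨x, hxV'⟩).asIdeal = q := by
    rw [show hV.primeIdealOf ⟨x, hxV'⟩ = ⟨q, inferInstance⟩ from hV.fromSpec.isOpenEmbedding.injective
      (hV.fromSpec_primeIdealOf ⟨x, hxV'⟩)]
  have hq' : (hV.primeIdealOf ⟨x, hxV'⟩).asIdeal ∈ minimalPrimes Γ(X, V) := hp ▸ hq
  haveI := isDomain_localization_of_minimal hq'
  haveI : IsDomain (X.presheaf.stalk x) :=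
    MulEquiv.isDomain (Localization.AtPrime (hV.primeIdealOf ⟨x, hxV'⟩).asIdeal)
      (IsLocalization.algEquiv (hV.primeIdealOf ⟨x, hxV'⟩).asIdeal.primeCompl (X.presheaf.stalk x)
        (Localization.AtPrime (hV.primeIdealOf ⟨x, hxV'⟩).asIdeal)).toRingEquiv.toMulEquiv
  obtain ⟨U, hU, hxU, hUV, hdom⟩ := exists_affine_isDomain hxV'
  exact ⟨U, hU, ⟨x, hxU⟩, hUV.trans hVW, hdom⟩

/-- Functions agreeing near the points of a dense set are equal on a reduced scheme. -/
theorem eq_of_dense [IsReduced X] {W : X.Opens} (a b : Γ(X, W)) {ι : Type*} (V : ι → X.Opens)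
    (hV : ∀ i, V i ≤ W)
    (hd : ∀ U : X.Opens, U ≤ W → (U : Set X).Nonempty → ∃ i, ((U : Set X) ∩ V i).Nonempty)
    (h : ∀ i, ores (hV i) a = ores (hV i) b) : a = b := by
  rw [← sub_eq_zero, ← basicOpen_eq_bot_iff]
  by_contra hne
  obtain ⟨i, x, hx, hxi⟩ := hd (X.basicOpen (a - b)) (X.basicOpen_le _)
    (Set.nonempty_iff_ne_empty.2 fun he => hne (Opens.ext he))
  have h1 : x ∈ X.basicOpen (ores (hV i) (a - b)) := (X.basicOpen_res _ (homOfLE (hV i)).op).ge ⟨hxi, hx⟩
  rw [map_sub, h i, sub_self, Scheme.basicOpen_zero] at h1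
  exact h1

variable {X' : Scheme.{u}} {g : X' ⟶ X}

theorem isCoh_push_structure [IsLocallyNoetherian X] [IsFinite g] :
    Coh.IsCoh ((Coh.push g).obj (Coh.structureModule X')) := by
  haveI := M1.isQCoh_structureModule X'
  have hq : Coh.IsQCoh ((Coh.push g).obj (Coh.structureModule X')) := M1.isQCoh_push g inferInstance
  refine ⟨hq, M1.isFT_of_finite_sections hq fun U hU => ?_⟩
  letI := (g.app U).hom.toAlgebra
  haveI : Module.Finite Γ(X, U) Γ(X', g ⁻¹ᵁ U) := IsFinite.finite_app g U hU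
  exact Module.Finite.of_surjective
    ({ toFun := fun a => a, map_add' := fun _ _ => rfl, map_smul' := fun _ _ => rfl } :
      Γ(X', g ⁻¹ᵁ U) →ₗ[Γ(X, U)] Γ((Coh.push g).obj (Coh.structureModule X'), U)) Function.surjective_id

/-- Every nonempty open meets an open with a basis. -/
theorem exists_isABas_meet [IsLocallyNoetherian X] [IsReduced X] [IsFinite g] {W : X.Opens}
    (hW : (W : Set X).Nonempty) :
    ∃ (T : X.Opens) (r : ℕ) (e : Fin r → Γ(X', g ⁻¹ᵁ T)), ((W : Set X) ∩ T).Nonempty ∧ IsABas g T e := by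
  obtain ⟨U, hU, hUne, hUW, hdom⟩ := exists_affine_isDomain_nonempty hW
  haveI : Nonempty U := ⟨⟨_, hUne.choose_spec⟩⟩
  let η : X := hU.fromSpec ⟨⊥, Ideal.isPrime_bot⟩
  have hηU : η ∈ U := by
    rw [← SetLike.mem_coe, ← hU.range_fromSpec]
    exact ⟨_, rfl⟩
  let := TopCat.Presheaf.algebra_section_stalk X.presheaf (⟨η, hηU⟩ : U)
  haveI := hU.isLocalization_stalk ⟨η, hηU⟩
  have hp : (hU.primeIdealOf ⟨η, hηU⟩).asIdeal = ⊥ := by
    rw [show hU.primeIdealOf ⟨η, hηU⟩ = ⟨⊥, Ideal.isPrime_bot⟩ from hU.fromSpec.isOpenEmbedding.injective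
      (hU.fromSpec_primeIdealOf ⟨η, hηU⟩)]
  haveI : IsFractionRing Γ(X, U) (X.presheaf.stalk η) := by
    have h0 : (hU.primeIdealOf ⟨η, hηU⟩).asIdeal.primeCompl = nonZeroDivisors Γ(X, U) := by
      ext a
      rw [mem_nonZeroDivisors_iff_ne_zero]
      show a ∉ (hU.primeIdealOf ⟨η, hηU⟩).asIdeal ↔ _
      rw [hp, Ideal.mem_bot]
    show IsLocalization (nonZeroDivisors Γ(X, U)) (X.presheaf.stalk η)
    rw [← h0]
    infer_instance
  letI : Field (X.presheaf.stalk η) := IsFractionRing.toField Γ(X, U)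
  haveI : Module.Free (X.presheaf.stalk η)
      (((Coh.push g).obj (Coh.structureModule X')).presheaf.stalk η) :=
    Module.Free.of_divisionRing _ _
  obtain ⟨T, n, hT, ⟨φ⟩⟩ := M1.exists_freeMod_of_free_stalk (M1.isFP_of_isCoh (isCoh_push_structure (g := g))) η
  have h1 := (P1Split.isBas_coprod (fun _ : Fin n => Coh.structureModule (T : Scheme.{u}))
    (fun _ => one ⊤) fun _ => P1Split.isGen_one ⊤).map_iso φ.symm
  exact ⟨T.ι ''ᵁ ⊤, n, _, ⟨η, hUW hηU, ⟨η, hT⟩, trivial, rfl⟩, isABas_of_isBas (P1Split.isBas_of_restrict T.ι _ h1)⟩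

end Groth.Agent.Norm11
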