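import Groth.Agent.Lib.Norm11.Datum
import Mathlib.RingTheory.Norm.Basic
import Mathlib.LinearAlgebra.Matrix.Charpoly.Coeff
import Mathlib.LinearAlgebra.Matrix.Charpoly.LinearMap

/-!
Norms along a morphism with locally free direct image of the structure sheaf.
-/

set_option autoImplicit false

universe u

open CategoryTheory Limits AlgebraicGeometry TopologicalSpace Opposite

set_option backward.isDefEq.respectTransparency false

noncomputable section

namespace Groth.Agent.Norm11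

open Groth.Agent.M1

variable {X X' : Scheme.{u}} (g : X' ⟶ X)

/-- A basis of the functions on the inverse images of the opens inside `T`. -/
def IsABas (T : X.Opens) {r : ℕ} (e : Fin r → Γ(X', g ⁻¹ᵁ T)) : Prop :=
  ∀ (T' : X.Opens) (le : T' ≤ T), Function.Bijective fun c : Fin r → Γ(X, T') =>
    ∑ i, g.app T' (c i) * ores (g.preimage_mono le) (e i)

/-- The norm over an open. -/
def nrm (T : X.Opens) (a : Γ(X', g ⁻¹ᵁ T)) : Γ(X, T) :=
  letI := (g.app T).hom.toAlgebra
  Algebra.norm Γ(X, T) a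

variable {g}

theorem ores_app {T T' : X.Opens} (le : T' ≤ T) (b : Γ(X, T)) :
    ores (g.preimage_mono le) (g.app T b) = g.app T' (ores le b) :=
  (ConcreteCategory.congr_hom (g.naturality (homOfLE le).op) b).symm

theorem IsABas.ores {T T' : X.Opens} {r : ℕ} {e : Fin r → Γ(X', g ⁻¹ᵁ T)} (he : IsABas g T e) (le : T' ≤ T) :
    IsABas g T' fun i => M1.ores (g.preimage_mono le) (e i) := fun V hV => by
  simp only [ores_ores]
  exact he V (hV.trans le)

theorem IsABas.bijective {T : X.Opens} {r : ℕ} {e : Fin r → Γ(X', g ⁻¹ᵁ T)} (he : IsABas g T e) :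
    Function.Bijective fun c : Fin r → Γ(X, T) => ∑ i, g.app T (c i) * e i := by
  simpa only [ores_id] using he T le_rfl

/-- The basis over the open itself. -/
def IsABas.basis {T : X.Opens} {r : ℕ} {e : Fin r → Γ(X', g ⁻¹ᵁ T)} (he : IsABas g T e) :
    letI := (g.app T).hom.toAlgebra
    Module.Basis (Fin r) Γ(X, T) Γ(X', g ⁻¹ᵁ T) :=
  letI := (g.app T).hom.toAlgebra
  Module.Basis.ofEquivFun (LinearEquiv.ofBijective
    (Fintype.linearCombination Γ(X, T) e) (by
      convert he.bijective using 2 with c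
      rw [Fintype.linearCombination_apply]
      rfl)).symm

theorem IsABas.basis_apply {T : X.Opens} {r : ℕ} {e : Fin r → Γ(X', g ⁻¹ᵁ T)} (he : IsABas g T e) (i : Fin r) :
    letI := (g.app T).hom.toAlgebra
    he.basis i = e i := by
  letI := (g.app T).hom.toAlgebra
  simp [IsABas.basis, Fintype.linearCombination_apply, Pi.single_apply]

theorem IsABas.exists_matrix {T : X.Opens} {r : ℕ} {e : Fin r → Γ(X', g ⁻¹ᵁ T)} (he : IsABas g T e)
    (a : Γ(X', g ⁻¹ᵁ T)) :
    ∃ M : Matrix (Fin r) (Fin r) Γ(X, T), ∀ j, a * e j = ∑ i, g.app T (M i j) * e i :=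
  ⟨fun i j => (he.bijective.2 (a * e j)).choose i, fun j => (he.bijective.2 (a * e j)).choose_spec.symm⟩

theorem IsABas.leftMulMatrix_eq {T : X.Opens} {r : ℕ} {e : Fin r → Γ(X', g ⁻¹ᵁ T)} (he : IsABas g T e)
    {a : Γ(X', g ⁻¹ᵁ T)} {M : Matrix (Fin r) (Fin r) Γ(X, T)}
    (hM : ∀ j, a * e j = ∑ i, g.app T (M i j) * e i) :
    letI := (g.app T).hom.toAlgebra
    Algebra.leftMulMatrix he.basis a = M := by
  letI := (g.app T).hom.toAlgebra
  refine Matrix.ext fun i j => ?_
  rw [Algebra.leftMulMatrix_eq_repr_mul, he.basis_apply, hM]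
  have h1 : (∑ k, g.app T (M k j) * e k) = ∑ k, M k j • he.basis k :=
    Finset.sum_congr rfl fun k _ => by rw [he.basis_apply]; rfl
  rw [h1, Module.Basis.repr_sum_self]

theorem IsABas.nrm_eq_det {T : X.Opens} {r : ℕ} {e : Fin r → Γ(X', g ⁻¹ᵁ T)} (he : IsABas g T e)
    {a : Γ(X', g ⁻¹ᵁ T)} {M : Matrix (Fin r) (Fin r) Γ(X, T)}
    (hM : ∀ j, a * e j = ∑ i, g.app T (M i j) * e i) : nrm g T a = M.det := by
  letI := (g.app T).hom.toAlgebra
  rw [nrm, Algebra.norm_eq_matrix_det he.basis, he.leftMulMatrix_eq hM]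

theorem IsABas.ores_nrm {T T' : X.Opens} {r : ℕ} {e : Fin r → Γ(X', g ⁻¹ᵁ T)} (he : IsABas g T e) (le : T' ≤ T)
    (a : Γ(X', g ⁻¹ᵁ T)) : M1.ores le (nrm g T a) = nrm g T' (M1.ores (g.preimage_mono le) a) := by
  obtain ⟨M, hM⟩ := he.exists_matrix a
  rw [he.nrm_eq_det hM, (he.ores le).nrm_eq_det (M := M.map (M1.ores le)) fun j => ?_]
  · exact RingHom.map_det _ M
  · rw [← map_mul, hM, map_sum]
    refine Finset.sum_congr rfl fun i _ => ?_
    rw [map_mul, ores_app le]
    rfl

theorem nrm_mul (T : X.Opens) (a b : Γ(X', g ⁻¹ᵁ T)) : nrm g T (a * b) = nrm g T a * nrm g T b := by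
  letI := (g.app T).hom.toAlgebra
  exact map_mul _ a b

theorem IsABas.nrm_app {T : X.Opens} {r : ℕ} {e : Fin r → Γ(X', g ⁻¹ᵁ T)} (he : IsABas g T e) (b : Γ(X, T)) :
    nrm g T (g.app T b) = b ^ r := by
  letI := (g.app T).hom.toAlgebra
  rw [nrm]
  refine (Algebra.norm_algebraMap_of_basis he.basis b).trans ?_
  rw [Fintype.card_fin]

theorem IsABas.exists_mul_eq {T : X.Opens} {r : ℕ} {e : Fin r → Γ(X', g ⁻¹ᵁ T)} (he : IsABas g T e)
    (a : Γ(X', g ⁻¹ᵁ T)) (hr : 0 < r) : ∃ c, g.app T (nrm g T a) = a * c := by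
  letI := (g.app T).hom.toAlgebra
  obtain ⟨M, hM⟩ := he.exists_matrix a
  have h1 : Polynomial.aeval a M.charpoly = 0 := by
    refine Algebra.leftMulMatrix_injective he.basis ?_
    rw [← Polynomial.aeval_algHom_apply, he.leftMulMatrix_eq hM, Matrix.aeval_self_charpoly, map_zero]
  have h2 := Polynomial.X_mul_divX_add M.charpoly
  have h3 := congrArg (Polynomial.aeval a) h2
  rw [map_add, map_mul, Polynomial.aeval_X, Polynomial.aeval_C, h1] at h3
  refine ⟨(-1) ^ r * -(Polynomial.aeval a M.charpoly.divX), ?_⟩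
  rw [he.nrm_eq_det hM, Matrix.det_eq_sign_charpoly_coeff, Fintype.card_fin, map_mul, map_pow, map_neg, map_one]
  change (-1) ^ r * algebraMap Γ(X, T) Γ(X', g ⁻¹ᵁ T) (M.charpoly.coeff 0) = _
  rw [eq_neg_of_add_eq_zero_right h3]
  ring

theorem IsABas.rank_eq {T : X.Opens} {r r' : ℕ} {e : Fin r → Γ(X', g ⁻¹ᵁ T)} {e' : Fin r' → Γ(X', g ⁻¹ᵁ T)}
    (he : IsABas g T e) (he' : IsABas g T e') : r = r' ∨ ∀ a b : Γ(X, T), a = b := by
  rcases subsingleton_or_nontrivial Γ(X, T) with h | h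
  · exact Or.inr fun a b => h.elim a b
  · letI := (g.app T).hom.toAlgebra
    exact Or.inl (by simpa using (Module.finrank_eq_card_basis he.basis).symm.trans (Module.finrank_eq_card_basis he'.basis))

variable (g)

/-- Opens inside `W` with a basis of rank dividing `R`. -/
structure Good (R : ℕ) (W : X.Opens) where
  T : X.Opens
  le : T ≤ W
  r : ℕ
  pos : 0 < r
  dvd : r ∣ R
  e : Fin r → Γ(X', g ⁻¹ᵁ T)
  bas : IsABas g T e

variable {g}

theorem existsUnique_norm {R : ℕ}
    (hcov : ∀ x : X, ∃ i : Good g R ⊤, x ∈ i.T) (W : X.Opens) (a : Γ(X', g ⁻¹ᵁ W)) :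
    ∃! c : Γ(X, W), ∀ i : Good g R W, ores i.le c = nrm g i.T (ores (g.preimage_mono i.le) a) ^ (R / i.r) := by
  have hcovW : W ≤ ⨆ i : Good g R W, i.T := fun x hx => by
    obtain ⟨i, hi⟩ := hcov x
    exact Opens.mem_iSup.2 ⟨⟨i.T ⊓ W, inf_le_right, i.r, i.pos, i.dvd, _, i.bas.ores inf_le_left⟩, hi, hx⟩
  obtain ⟨c, hc, huniq⟩ := X.sheaf.existsUnique_gluing' (fun i : Good g R W => i.T) W (fun i => homOfLE i.le) hcovW
    (fun i => nrm g i.T (ores (g.preimage_mono i.le) a) ^ (R / i.r)) fun i j => by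
      show ores (inf_le_left : i.T ⊓ j.T ≤ i.T) _ = ores (inf_le_right : i.T ⊓ j.T ≤ j.T) _
      rw [map_pow, map_pow, i.bas.ores_nrm inf_le_left, j.bas.ores_nrm inf_le_right, ores_ores, ores_ores]
      rcases (i.bas.ores (inf_le_left : i.T ⊓ j.T ≤ i.T)).rank_eq (j.bas.ores inf_le_right) with h | h
      · rw [h]
      · exact h _ _
  exact ⟨c, hc, fun y hy => huniq y hy⟩

/-- The norm datum of a morphism with locally free direct image. -/
def freeDatum [Surjective g] {R : ℕ} (hR : 0 < R) (hcov : ∀ x : X, ∃ i : Good g R ⊤, x ∈ i.T) :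
    NormDatum g (𝟙 X) where
  R := R
  R_pos := hR
  N W a := (existsUnique_norm hcov W a).exists.choose
  N_res W W' le a := by
    refine (existsUnique_norm hcov W' _).unique ?_ (existsUnique_norm hcov W' _).exists.choose_spec
    intro i
    have h1 := (existsUnique_norm hcov W a).exists.choose_spec ⟨i.T, i.le.trans le, i.r, i.pos, i.dvd, i.e, i.bas⟩
    refine (ores_ores le i.le _).trans (h1.trans ?_)
    rw [ores_ores]
  N_mul W a b := by
    refine (existsUnique_norm hcov W _).unique (existsUnique_norm hcov W _).exists.choose_spec fun i => ?_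
    rw [map_mul, map_mul, nrm_mul, mul_pow, (existsUnique_norm hcov W a).exists.choose_spec i,
      (existsUnique_norm hcov W b).exists.choose_spec i]
  N_app W b := by
    refine (existsUnique_norm hcov W _).unique (existsUnique_norm hcov W _).exists.choose_spec fun i => ?_
    rw [ores_app i.le, i.bas.nrm_app, ← pow_mul, Nat.mul_div_cancel' i.dvd]
    exact map_pow (ores i.le).hom b R
  vanish W a z hz hall hmem := by
    let c : Γ(X, W) := (existsUnique_norm hcov W a).exists.choose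
    obtain ⟨i₀, hi₀⟩ := hcov z
    let i : Good g R W := ⟨i₀.T ⊓ W, inf_le_right, i₀.r, i₀.pos, i₀.dvd, _, i₀.bas.ores inf_le_left⟩
    obtain ⟨x', hx'⟩ := g.surjective z
    refine hall x' hx' ?_
    have hc : ores i.le c = nrm g i.T (ores (g.preimage_mono i.le) a) ^ (R / i.r) :=
      (existsUnique_norm hcov W a).exists.choose_spec i
    obtain ⟨d, hd⟩ := i.bas.exists_mul_eq (ores (g.preimage_mono i.le) a) i.pos
    have hz' : z ∈ X.basicOpen (ores i.le c) := by
      refine (X.basicOpen_res c (homOfLE i.le).op).ge ⟨⟨hi₀, hz⟩, hmem⟩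
    have h1 : x' ∈ X'.basicOpen (g.app i.T (ores i.le c)) := by
      rw [← Scheme.preimage_basicOpen]
      show g x' ∈ X.basicOpen _
      rw [hx']
      exact hz'
    rw [hc, map_pow, hd, mul_pow] at h1
    have hn : 0 < R / i.r := Nat.div_pos (Nat.le_of_dvd hR i.dvd) i.pos
    rw [Scheme.basicOpen_mul] at h1
    have h3 := (RingedSpace.basicOpen_pow X'.toRingedSpace (ores (g.preimage_mono i.le) a) _ hn).le h1.1
    have h2 := (X'.basicOpen_res a (homOfLE (g.preimage_mono i.le)).op).le h3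
    exact h2.2

end Groth.Agent.Norm11
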