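import Groth.Agent.Lib.Norm11.Dense
import Mathlib.RingTheory.Polynomial.GaussLemma
import Mathlib.RingTheory.Finiteness.Cardinality
import Mathlib.LinearAlgebra.Matrix.Charpoly.Minpoly

/-!
Norms determined on a dense open; norms at normal points.
-/

set_option autoImplicit false

universe u

open CategoryTheory Limits AlgebraicGeometry TopologicalSpace Opposite Polynomial

set_option backward.isDefEq.respectTransparency false

noncomputable section

namespace Groth.Agent.Norm11

open Groth.Agent.M1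

/-- A characteristic polynomial divides a power of every monic equation. -/
theorem charpoly_dvd_pow {K : Type u} [CommRing K] {r : ℕ} (M : Matrix (Fin r) (Fin r) K) (Q : K[X])
    (hQ : aeval M Q = 0) : M.charpoly ∣ Q ^ r := by
  let M' : Matrix (Fin r) (Fin r) K[X] := M.map (C : K →+* K[X])
  have h1 : (C (Polynomial.X : K[X]) - Polynomial.X : K[X][X]) ∣ C Q - Q.map (C : K →+* K[X]) := by
    have := sub_dvd_eval_sub (C (Polynomial.X : K[X])) (Polynomial.X : K[X][X])
      ((Q.map (C : K →+* K[X])).map (C : K[X] →+* K[X][X]))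
    rwa [eval_map, eval₂_at_apply, eval_map (f := (C : K →+* K[X])), eval₂_C_X, eval_map, eval₂_C_X] at this
  obtain ⟨B, hB⟩ := h1
  have h2 : Matrix.det (aeval M' (C (Polynomial.X : K[X]) - Polynomial.X : K[X][X])) ∣
      Matrix.det (aeval M' (C Q - Q.map (C : K →+* K[X]))) := by
    rw [hB, map_mul, Matrix.det_mul]
    exact Dvd.intro _ rfl
  have h3 : aeval M' (C (Polynomial.X : K[X]) - Polynomial.X : K[X][X]) = M.charmatrix := by
    rw [map_sub, aeval_C, aeval_X, Matrix.charmatrix, Matrix.algebraMap_eq_diagonal]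
    rfl
  have h4 : aeval M' (Q.map (C : K →+* K[X])) = 0 := by
    have := congrArg (fun N : Matrix (Fin r) (Fin r) K => N.map (C : K →+* K[X])) hQ
    simp only [Matrix.map_zero (C : K →+* K[X]) (map_zero C)] at this
    refine Eq.trans ?_ this
    rw [aeval_def, eval₂_map, aeval_def]
    have h := Polynomial.hom_eval₂ Q (algebraMap K (Matrix (Fin r) (Fin r) K)) (C : K →+* K[X]).mapMatrix M
    refine Eq.trans ?_ h.symm
    congr 1
    refine RingHom.ext fun a => Matrix.ext fun i j => ?_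
    by_cases hij : i = j <;> simp [Matrix.algebraMap_matrix_apply, hij]
  have h5 : aeval M' (C Q - Q.map (C : K →+* K[X])) = algebraMap K[X] _ Q := by
    rw [map_sub, h4, sub_zero, aeval_C]
  rw [h3, h5, Matrix.algebraMap_eq_diagonal, Matrix.det_diagonal] at h2
  simpa [Matrix.charpoly, Finset.prod_const] using h2

/-- The determinant of an element of a finite algebra over an integrally closed domain. -/
theorem exists_det_eq {O K B : Type u} [CommRing O] [IsDomain O] [IsIntegrallyClosed O] [Field K] [Algebra O K]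
    [IsFractionRing O K] [CommRing B] [Algebra O B] [Module.Finite O B] {r : ℕ}
    (φ : B →ₐ[O] Matrix (Fin r) (Fin r) K) (b : B) :
    ∃ c : O, algebraMap O K c = (φ b).det ∧
      (0 < r → ∀ p : Ideal O, p.IsPrime → b ∈ (p.map (algebraMap O B)).radical → c ∈ p) := by
  have key : ∀ (Q : O[X]), Q.Monic → aeval b Q = 0 → ∃ P : O[X], P.Monic ∧ P.natDegree = r ∧
      P ∣ Q ^ r ∧ algebraMap O K (P.coeff 0) = (φ b).charpoly.coeff 0 := by
    intro Q hQm hQ
    have hK : aeval (φ b) (Q.map (algebraMap O K)) = 0 := by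
      rw [aeval_map_algebraMap, aeval_algHom_apply, hQ, map_zero]
    have h1 := charpoly_dvd_pow _ _ hK
    rw [← Polynomial.map_pow] at h1
    obtain ⟨P, hP⟩ := IsIntegrallyClosed.eq_map_mul_C_of_dvd K (hQm.pow r) h1
    rw [(Matrix.charpoly_monic _).leadingCoeff, map_one, mul_one] at hP
    have hPm : P.Monic := monic_of_injective (IsFractionRing.injective O K) (hP ▸ Matrix.charpoly_monic _)
    refine ⟨P, hPm, ?_, ?_, by rw [← hP, coeff_map]⟩
    · rw [← hPm.natDegree_map (algebraMap O K), hP, Matrix.charpoly_natDegree_eq_dim, Fintype.card_fin]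
    · exact (Polynomial.map_dvd_map (algebraMap O K) (IsFractionRing.injective O K) hPm).1 (hP.symm ▸ h1)
  have hdet : ∀ P : O[X], algebraMap O K (P.coeff 0) = (φ b).charpoly.coeff 0 →
      algebraMap O K ((-1) ^ r * P.coeff 0) = (φ b).det := fun P hP => by
    rw [map_mul, map_pow, map_neg, map_one, hP, Matrix.det_eq_sign_charpoly_coeff, Fintype.card_fin]
  obtain ⟨Q₀, hQ₀m, hQ₀⟩ := Algebra.IsIntegral.isIntegral (R := O) b
  obtain ⟨P₀, -, -, -, hP₀⟩ := key Q₀ hQ₀m hQ₀
  refine ⟨_, hdet P₀ hP₀, fun hr p hp hb => ?_⟩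
  haveI := hp
  obtain ⟨k, hk⟩ := hb
  have hrange : LinearMap.range (LinearMap.mulLeft O (b ^ k)) ≤ p • (⊤ : Submodule O B) := by
    rintro _ ⟨y, rfl⟩
    rw [Ideal.smul_top_eq_map]
    exact Ideal.mul_mem_right _ _ hk
  obtain ⟨Q, hQm, hQc, hQ⟩ := LinearMap.exists_monic_and_natDegree_eq_and_coeff_mem_pow_and_aeval_eq_zero
    O (LinearMap.mulLeft O (b ^ k)) p hrange |>.imp fun Q h => (⟨h.1, h.2.2.1, h.2.2.2⟩ : Q.Monic ∧
      (∀ i, Q.coeff i ∈ p ^ (Q.natDegree - i)) ∧ aeval (LinearMap.mulLeft O (b ^ k)) Q = 0)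
  have hQb : aeval (b ^ k) Q = 0 := by
    have h1 : aeval (Algebra.lmul O B (b ^ k)) Q = 0 := hQ
    rw [aeval_algHom_apply] at h1
    have h2 := LinearMap.congr_fun h1 1
    simpa using h2
  have hQr : Q.map (Ideal.Quotient.mk p) = X ^ Q.natDegree := by
    refine Polynomial.ext fun i => ?_
    rw [coeff_map, coeff_X_pow]
    by_cases hi : i = Q.natDegree
    · subst hi
      rw [if_pos rfl, hQm.coeff_natDegree, map_one]
    · rw [if_neg hi, Ideal.Quotient.eq_zero_iff_mem]
      by_cases hlt : i < Q.natDegree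
      · exact Ideal.pow_le_self (by omega) (hQc i)
      · rw [coeff_eq_zero_of_natDegree_lt (by omega)]
        exact zero_mem _
  rcases Nat.eq_zero_or_pos k with rfl | hk0
  · rw [pow_zero] at hk
    haveI : Subsingleton (Matrix (Fin r) (Fin r) K) := by
      obtain ⟨Q, hQm, hQb, hQr⟩ : ∃ Q : O[X], Q.Monic ∧ aeval (1 : B) Q = 0 ∧ Q.map (Ideal.Quotient.mk p) = X ^ Q.natDegree :=
        ⟨Q, hQm, by rwa [pow_zero] at hQb, hQr⟩
      exfalso
      have h1 : algebraMap O B (Q.eval 1) = 0 := by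
        rw [← hQb, ← aeval_algebraMap_apply_eq_algebraMap_eval, map_one]
      have h2 : algebraMap O K (Q.eval 1) = 0 := by
        have h3 := congrArg φ h1
        rw [AlgHom.commutes, map_zero] at h3
        have h4 := congrFun (congrFun h3 ⟨0, hr⟩) ⟨0, hr⟩
        simpa [Matrix.algebraMap_matrix_apply] using h4
      rw [← map_zero (algebraMap O K)] at h2
      have h5 := congrArg (Ideal.Quotient.mk p) (IsFractionRing.injective O K h2)
      rw [map_zero, ← eval_map_apply, map_one, hQr, eval_pow, eval_X, one_pow] at h5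
      exact one_ne_zero h5
    haveI : Nonempty (Fin r) := ⟨⟨0, hr⟩⟩
    exact absurd (Matrix.ext_iff.2 (Subsingleton.elim (1 : Matrix (Fin r) (Fin r) K) 0) ⟨0, hr⟩ ⟨0, hr⟩) (by simp)
  obtain ⟨P, hPm, hPd, hPQ, hP⟩ := key (Q.comp (X ^ k)) (hQm.comp (monic_X_pow k) (by simp; omega))
    (by rw [aeval_comp, map_pow, aeval_X, hQb])
  have hc : (-1) ^ r * P₀.coeff 0 = (-1) ^ r * P.coeff 0 :=
    IsFractionRing.injective O K ((hdet P₀ hP₀).trans (hdet P hP).symm)
  show (-1) ^ r * P₀.coeff 0 ∈ p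
  rw [hc]
  refine p.mul_mem_left _ ((Ideal.Quotient.eq_zero_iff_mem).1 ?_)
  have h1 : P.map (Ideal.Quotient.mk p) ∣ X ^ (k * (Q.natDegree * r)) := by
    have := Polynomial.map_dvd (Ideal.Quotient.mk p) hPQ
    rwa [Polynomial.map_pow, Polynomial.map_comp, Polynomial.map_pow, Polynomial.map_X, hQr, X_pow_comp,
      ← pow_mul, ← pow_mul] at this
  obtain ⟨i, -, hi⟩ := (dvd_prime_pow Polynomial.prime_X _).1 h1
  have h2 := eq_of_monic_of_associated (hPm.map _) (monic_X_pow i) hi
  rw [← coeff_map, h2, coeff_X_pow, if_neg]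
  rintro rfl
  rw [pow_zero] at h2
  have := hPm.natDegree_map (Ideal.Quotient.mk p)
  rw [h2, natDegree_one, hPd] at this
  omega

variable {X X' Z : Scheme.{u}} {g : X' ⟶ X}

/-- The condition defining the norm. -/
def IsNorm (g : X' ⟶ X) (h : Z ⟶ X) (R : ℕ) (W : X.Opens) (a : Γ(X', g ⁻¹ᵁ W)) (c : Γ(Z, h ⁻¹ᵁ W)) : Prop :=
  ∀ i : Good g R W, ores (h.preimage_mono i.le) c = h.app i.T (nrm g i.T (ores (g.preimage_mono i.le) a) ^ (R / i.r))

variable {h : Z ⟶ X}

theorem IsNorm.res {R : ℕ} {W W' : X.Opens} (le : W' ≤ W) {a : Γ(X', g ⁻¹ᵁ W)} {c : Γ(Z, h ⁻¹ᵁ W)}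
    (hc : IsNorm g h R W a c) :
    IsNorm g h R W' (M1.ores (g.preimage_mono le) a) (M1.ores (h.preimage_mono le) c) := fun i => by
  rw [ores_ores, ores_ores]
  exact hc ⟨i.T, i.le.trans le, i.r, i.pos, i.dvd, i.e, i.bas⟩

/-- A norm datum from existence and uniqueness. -/
def normDatumOf {R : ℕ} (hR : 0 < R)
    (huniq : ∀ (W : X.Opens) (c c' : Γ(Z, h ⁻¹ᵁ W)),
      (∀ i : Good g R W, ores (h.preimage_mono i.le) c = ores (h.preimage_mono i.le) c') → c = c')
    (hex : ∀ (W : X.Opens) (a : Γ(X', g ⁻¹ᵁ W)), ∃ c, IsNorm g h R W a c)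
    (hvan : ∀ (W : X.Opens) (a : Γ(X', g ⁻¹ᵁ W)) (z : Z), h z ∈ W →
      (∀ x' : X', g x' = h z → x' ∉ X'.basicOpen a) → ∀ c, IsNorm g h R W a c → z ∉ Z.basicOpen c) :
    NormDatum g h where
  R := R
  R_pos := hR
  N W a := (hex W a).choose
  N_res W W' le a := huniq W' _ _ fun i =>
    (((hex W a).choose_spec.res le) i).trans ((hex W' _).choose_spec i).symm
  N_mul W a b := huniq W _ _ fun i => by
    rw [map_mul, (hex W (a * b)).choose_spec i, (hex W a).choose_spec i, (hex W b).choose_spec i, ← map_mul,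
      map_mul, nrm_mul, mul_pow]
  N_app W b := huniq W _ _ fun i => by
    rw [(hex W _).choose_spec i, ores_app i.le, i.bas.nrm_app, ← pow_mul, Nat.mul_div_cancel' i.dvd, map_pow,
      map_pow, ores_app (g := h) i.le]
  vanish W a z hz hall := hvan W a z hz hall _ (hex W a).choose_spec

/-- Vanishing of the norm at a point with a basis. -/
theorem IsNorm.notMem [Surjective g] {R : ℕ} (hR : 0 < R) {W : X.Opens} {a : Γ(X', g ⁻¹ᵁ W)}
    {c : Γ(Z, h ⁻¹ᵁ W)} (hc : IsNorm g h R W a c) (i : Good g R W) {z : Z} (hz : h z ∈ i.T)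
    (hall : ∀ x' : X', g x' = h z → x' ∉ X'.basicOpen a) : z ∉ Z.basicOpen c := fun hmem => by
  obtain ⟨x', hx'⟩ := g.surjective (h z)
  refine hall x' hx' ?_
  obtain ⟨d, hd⟩ := i.bas.exists_mul_eq (M1.ores (g.preimage_mono i.le) a) i.pos
  have hz' : z ∈ Z.basicOpen (M1.ores (h.preimage_mono i.le) c) :=
    (Z.basicOpen_res c (homOfLE (h.preimage_mono i.le)).op).ge ⟨hz, hmem⟩
  rw [hc i, ← Scheme.preimage_basicOpen] at hz'
  have h1 : x' ∈ X'.basicOpen (g.app i.T (nrm g i.T (M1.ores (g.preimage_mono i.le) a) ^ (R / i.r))) := by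
    rw [← Scheme.preimage_basicOpen]
    show g x' ∈ X.basicOpen _
    rw [hx']
    exact hz'
  rw [map_pow, hd, mul_pow, Scheme.basicOpen_mul] at h1
  have hn : 0 < R / i.r := Nat.div_pos (Nat.le_of_dvd hR i.dvd) i.pos
  have h3 := (RingedSpace.basicOpen_pow X'.toRingedSpace (M1.ores (g.preimage_mono i.le) a) _ hn).le h1.1
  exact ((X'.basicOpen_res a (homOfLE (g.preimage_mono i.le)).op).le h3).2

end Groth.Agent.Norm11
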