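import Groth.Agent.Lib.Norm11.Main
import Mathlib.RingTheory.MvPolynomial.Basic
import Mathlib.RingTheory.Filtration

/-!
The algebra generated by norms on the locus with bases.
-/

set_option autoImplicit false

universe u

open CategoryTheory Limits AlgebraicGeometry TopologicalSpace Opposite

set_option backward.isDefEq.respectTransparency false

noncomputable section

namespace Groth.Agent.Norm11

open Groth.Agent.M1

variable {X X' : Scheme.{u}} (g : X' ⟶ X) (R : ℕ)

/-- The locus covered by opens with bases. -/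
def V0 : X.Opens := ⨆ i : Good g R ⊤, i.T

variable {g R}

theorem le_preimage_goods (O : X.Opens) :
    (V0 g R).ι ⁻¹ᵁ O ≤ ⨆ i : Good g R O, (V0 g R).ι ⁻¹ᵁ i.T := fun z hz => by
  obtain ⟨i, hi⟩ := Opens.mem_iSup.1 z.2
  exact Opens.mem_iSup.2 ⟨⟨i.T ⊓ O, inf_le_right, i.r, i.pos, i.dvd, _, i.bas.ores inf_le_left⟩, hi, hz⟩

theorem uniq_V0 (O : X.Opens) (c c' : Γ((V0 g R).toScheme, (V0 g R).ι ⁻¹ᵁ O))
    (H : ∀ i : Good g R O, M1.ores ((V0 g R).ι.preimage_mono i.le) c = M1.ores ((V0 g R).ι.preimage_mono i.le) c') :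
    c = c' :=
  (V0 g R).toScheme.sheaf.eq_of_locally_eq' (fun i : Good g R O => (V0 g R).ι ⁻¹ᵁ i.T) _
    (fun i => homOfLE ((V0 g R).ι.preimage_mono i.le)) (le_preimage_goods O) c c' H

theorem exists_norm_V0 (O : X.Opens) (a : Γ(X', g ⁻¹ᵁ O)) : ∃ c, IsNorm g (V0 g R).ι R O a c := by
  let val : ∀ i : Good g R O, Γ((V0 g R).toScheme, (V0 g R).ι ⁻¹ᵁ i.T) := fun i =>
    (V0 g R).ι.app i.T (nrm g i.T (M1.ores (g.preimage_mono i.le) a) ^ (R / i.r))
  obtain ⟨c, hc, -⟩ := (V0 g R).toScheme.sheaf.existsUnique_gluing' (fun i : Good g R O => (V0 g R).ι ⁻¹ᵁ i.T)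
    ((V0 g R).ι ⁻¹ᵁ O) (fun i => homOfLE ((V0 g R).ι.preimage_mono i.le)) (le_preimage_goods O) val fun i j => by
      show M1.ores ((V0 g R).ι.preimage_mono (inf_le_left : i.T ⊓ j.T ≤ i.T)) (val i) =
        M1.ores ((V0 g R).ι.preimage_mono (inf_le_right : i.T ⊓ j.T ≤ j.T)) (val j)
      simp only [val]
      rw [ores_app (g := (V0 g R).ι) inf_le_left, ores_app (g := (V0 g R).ι) inf_le_right]
      refine congrArg _ ?_
      rw [map_pow, map_pow, i.bas.ores_nrm inf_le_left, j.bas.ores_nrm inf_le_right, ores_ores, ores_ores]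
      rcases (i.bas.ores (inf_le_left : i.T ⊓ j.T ≤ i.T)).rank_eq (j.bas.ores inf_le_right) with h | h
      · rw [h]
      · exact h _ _
  exact ⟨c, hc⟩

variable (g R)

/-- The norm on the locus with bases. -/
def nV (O : X.Opens) (a : Γ(X', g ⁻¹ᵁ O)) : Γ((V0 g R).toScheme, (V0 g R).ι ⁻¹ᵁ O) :=
  (exists_norm_V0 (g := g) (R := R) O a).choose

variable {g R}

theorem nV_spec (O : X.Opens) (a : Γ(X', g ⁻¹ᵁ O)) : IsNorm g (V0 g R).ι R O a (nV g R O a) :=
  (exists_norm_V0 O a).choose_spec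

theorem ores_nV {O O' : X.Opens} (le : O' ≤ O) (a : Γ(X', g ⁻¹ᵁ O)) :
    M1.ores ((V0 g R).ι.preimage_mono le) (nV g R O a) = nV g R O' (M1.ores (g.preimage_mono le) a) :=
  uniq_V0 O' _ _ fun i => (((nV_spec O a).res le) i).trans ((nV_spec O' _) i).symm

theorem nV_mul (O : X.Opens) (a b : Γ(X', g ⁻¹ᵁ O)) : nV g R O (a * b) = nV g R O a * nV g R O b :=
  uniq_V0 O _ _ fun i => by
    rw [map_mul, nV_spec O (a * b) i, nV_spec O a i, nV_spec O b i, ← map_mul, map_mul, nrm_mul, mul_pow]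

theorem nV_app (O : X.Opens) (b : Γ(X, O)) : nV g R O (g.app O b) = (V0 g R).ι.app O b ^ R :=
  uniq_V0 O _ _ fun i => by
    rw [nV_spec O _ i, ores_app i.le, i.bas.nrm_app, ← pow_mul, Nat.mul_div_cancel' i.dvd, map_pow,
      map_pow, ores_app (g := (V0 g R).ι) i.le]

theorem nV_one (O : X.Opens) : nV g R O 1 = 1 := by
  rw [← map_one (g.app O).hom]
  exact (nV_app O 1).trans (by rw [map_one, one_pow])

variable (g R)

/-- The subring generated by functions and norms. -/
def normRing (O : X.Opens) : Subring Γ((V0 g R).toScheme, (V0 g R).ι ⁻¹ᵁ O) :=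
  Subring.closure (Set.range ((V0 g R).ι.app O) ∪ Set.range (nV g R O))

variable {g R}

theorem app_mem_normRing (O : X.Opens) (b : Γ(X, O)) : (V0 g R).ι.app O b ∈ normRing g R O :=
  Subring.subset_closure (Or.inl ⟨b, rfl⟩)

theorem nV_mem_normRing (O : X.Opens) (a : Γ(X', g ⁻¹ᵁ O)) : nV g R O a ∈ normRing g R O :=
  Subring.subset_closure (Or.inr ⟨a, rfl⟩)

theorem ores_mem_normRing {O O' : X.Opens} (le : O' ≤ O) {b : Γ((V0 g R).toScheme, (V0 g R).ι ⁻¹ᵁ O)}
    (hb : b ∈ normRing g R O) : M1.ores ((V0 g R).ι.preimage_mono le) b ∈ normRing g R O' := by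
  refine (Subring.closure_le (t := (normRing g R O').comap (M1.ores ((V0 g R).ι.preimage_mono le)).hom)).2 ?_ hb
  rintro _ (⟨c, rfl⟩ | ⟨a, rfl⟩)
  · rw [SetLike.mem_coe, Subring.mem_comap]
    show M1.ores ((V0 g R).ι.preimage_mono le) ((V0 g R).ι.app O c) ∈ normRing g R O'
    rw [ores_app (g := (V0 g R).ι) le]
    exact app_mem_normRing _ _
  · rw [SetLike.mem_coe, Subring.mem_comap]
    show M1.ores ((V0 g R).ι.preimage_mono le) (nV g R O a) ∈ normRing g R O'
    rw [ores_nV le]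
    exact nV_mem_normRing _ _

variable (g R)

/-- The presheaf of these rings. -/
def normDiagram : X.Opensᵒᵖ ⥤ CommRingCat.{u} where
  obj O := .of (normRing g R O.unop)
  map {O O'} i := CommRingCat.ofHom
    ((M1.ores ((V0 g R).ι.preimage_mono i.unop.le)).hom.restrict _ _ fun _ hb => ores_mem_normRing i.unop.le hb)
  map_id O := by
    refine CommRingCat.hom_ext (RingHom.ext fun b => Subtype.ext ?_)
    exact ores_id _ _
  map_comp i j := by
    refine CommRingCat.hom_ext (RingHom.ext fun b => Subtype.ext ?_)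
    exact (ores_ores _ _ _).symm

/-- Functions as elements of the rings generated by norms. -/
def normDiagramMap : X.presheaf ⟶ normDiagram g R where
  app O := CommRingCat.ofHom (((V0 g R).ι.app O.unop).hom.codRestrict _ fun b => app_mem_normRing _ b)
  naturality {O O'} i := by
    ext b
    exact Subtype.ext (ores_app (g := (V0 g R).ι) i.unop.le b).symm

variable {g R}

/-- Norms of combinations of generators are polynomial in the coefficients. -/
theorem exists_poly {U : X.Opens} (i : Good g R U) {n : ℕ} (gen : Fin n → Γ(X', g ⁻¹ᵁ U)) :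
    ∃ P : MvPolynomial (Fin n) Γ(X, i.T), ∀ b : Fin n → Γ(X, U),
      MvPolynomial.eval (fun k => M1.ores i.le (b k)) P =
        nrm g i.T (M1.ores (g.preimage_mono i.le) (∑ k, g.app U (b k) * gen k)) ^ (R / i.r) := by
  classical
  letI := (g.app i.T).hom.toAlgebra
  let Mk := fun k => Algebra.leftMulMatrix i.bas.basis (M1.ores (g.preimage_mono i.le) (gen k))
  refine ⟨(∑ k, (MvPolynomial.X k : MvPolynomial (Fin n) Γ(X, i.T)) • (Mk k).map (MvPolynomial.C : Γ(X, i.T) →+* MvPolynomial (Fin n) Γ(X, i.T))).det ^ (R / i.r),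
    fun b => ?_⟩
  rw [map_pow, nrm, Algebra.norm_eq_matrix_det i.bas.basis, RingHom.map_det]
  refine congrArg (fun M => Matrix.det M ^ (R / i.r)) ?_
  rw [map_sum, map_sum, map_sum]
  refine Finset.sum_congr rfl fun k _ => ?_
  rw [map_mul, ores_app i.le, show g.app i.T (M1.ores i.le (b k)) * M1.ores (g.preimage_mono i.le) (gen k) =
    M1.ores i.le (b k) • M1.ores (g.preimage_mono i.le) (gen k) from rfl,
    map_smul (Algebra.leftMulMatrix i.bas.basis)]
  refine Matrix.ext fun p q => ?_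
  simp [Mk]

/-- The values of the norm in one chart lie in a finite module, compatibly with powers of ideals. -/
theorem exists_fg_submodule [IsFinite g] (hR : 0 < R) {U : X.Opens} (hU : IsAffineOpen U) (i : Good g R U) :
    letI := ((V0 g R).ι.appLE U ((V0 g R).ι ⁻¹ᵁ i.T) ((V0 g R).ι.preimage_mono i.le)).hom.toAlgebra
    ∃ M : Submodule Γ(X, U) Γ((V0 g R).toScheme, (V0 g R).ι ⁻¹ᵁ i.T), M.FG ∧
      ∀ (J : Ideal Γ(X, U)) (a : Γ(X', g ⁻¹ᵁ U)), a ∈ J.map (g.app U).hom →
        M1.ores ((V0 g R).ι.preimage_mono i.le) (nV g R U a) ∈ J • M := by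
  classical
  let θ := ((V0 g R).ι.appLE U ((V0 g R).ι ⁻¹ᵁ i.T) ((V0 g R).ι.preimage_mono i.le)).hom
  letI := θ.toAlgebra
  letI algU : Algebra Γ(X, U) Γ(X', g ⁻¹ᵁ U) := (g.app U).hom.toAlgebra
  haveI : Module.Finite Γ(X, U) Γ(X', g ⁻¹ᵁ U) := IsFinite.finite_app g U hU
  obtain ⟨n, gen, hgen⟩ := Module.Finite.exists_fin (R := Γ(X, U)) (M := Γ(X', g ⁻¹ᵁ U))
  obtain ⟨P, hP⟩ := exists_poly i gen
  refine ⟨Submodule.span Γ(X, U) ↑(P.support.image fun m => (V0 g R).ι.app i.T (P.coeff m)),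
    Submodule.fg_span (Finset.finite_toSet _), fun J a ha => ?_⟩
  have hmem : a ∈ J • (⊤ : Submodule Γ(X, U) Γ(X', g ⁻¹ᵁ U)) := by
    rw [Ideal.smul_top_eq_map]
    exact ha
  rw [← hgen, Submodule.mem_ideal_smul_span_iff_exists_sum] at hmem
  obtain ⟨b, hb, hba⟩ := hmem
  have hsum : ∑ k, g.app U (b k) * gen k = a := by
    rw [← hba, Finsupp.sum_fintype _ _ (fun k => zero_smul Γ(X, U) (gen k))]
    rfl
  have hθ : ∀ u, (V0 g R).ι.app i.T (M1.ores i.le u) = θ u := fun u => by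
    rw [← ores_app (g := (V0 g R).ι) i.le]
    rfl
  rw [nV_spec U a i, ← hsum, ← hP, MvPolynomial.eval_eq, map_sum]
  refine Submodule.sum_mem _ fun m hm => ?_
  rw [show (∏ k ∈ m.support, M1.ores i.le (b k) ^ m k) = M1.ores i.le (∏ k ∈ m.support, b k ^ m k) by
      rw [map_prod]; simp only [map_pow],
    map_mul, hθ, mul_comm]
  show (∏ k ∈ m.support, b k ^ m k) • (V0 g R).ι.app i.T (MvPolynomial.coeff m P) ∈ _
  by_cases hm0 : m = 0
  · subst hm0
    -- the constant coefficient is the norm of zero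
    have hzero : MvPolynomial.eval (fun k => M1.ores i.le ((0 : Fin n → Γ(X, U)) k)) P = 0 := by
      rw [hP]
      simp only [Pi.zero_apply, map_zero, zero_mul, Finset.sum_const_zero, nrm]
      letI := (g.app i.T).hom.toAlgebra
      haveI : Nonempty (Fin i.r) := ⟨⟨0, i.pos⟩⟩
      rw [Algebra.norm_eq_matrix_det i.bas.basis, map_zero, Matrix.det_zero]
      exact zero_pow (Nat.div_pos (Nat.le_of_dvd hR i.dvd) i.pos).ne'
    simp only [Pi.zero_apply, map_zero] at hzero
    rw [MvPolynomial.eval_zero', MvPolynomial.constantCoeff_eq] at hzero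
    rw [hzero, map_zero, smul_zero]
    exact zero_mem _
  · obtain ⟨k, hk⟩ := Finsupp.support_nonempty_iff.2 hm0
    refine Submodule.smul_mem_smul ?_ (Submodule.subset_span (Finset.mem_coe.2 (Finset.mem_image.2 ⟨m, hm, rfl⟩)))
    rw [← Finset.mul_prod_erase _ _ hk]
    exact Ideal.mul_mem_right _ _ (J.pow_mem_of_mem (hb k) _ (Nat.pos_of_ne_zero (Finsupp.mem_support_iff.1 hk)))

end Groth.Agent.Norm11
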