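import Groth.Agent.Lib.Norm11.NormAlg
import Mathlib.AlgebraicGeometry.Sites.SmallAffineZariski

/-!
Localisation and finiteness of the algebra generated by norms; vanishing of norms.
-/

set_option autoImplicit false

universe u

open CategoryTheory Limits AlgebraicGeometry TopologicalSpace Opposite

set_option backward.isDefEq.respectTransparency false

noncomputable section

namespace Groth.Agent.Norm11

open Groth.Agent.M1

variable {X X' : Scheme.{u}} {g : X' ⟶ X} {R : ℕ}

theorem isCompact_preimage_V0 [IsNoetherian X] (U : X.Opens) :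
    IsCompact ((((V0 g R).ι ⁻¹ᵁ U : (V0 g R).toScheme.Opens)) : Set (V0 g R).toScheme) :=
  (V0 g R).ι.isOpenEmbedding.isInducing.isCompact_iff.2 (NoetherianSpace.isCompact _)

theorem coequifibered_normDiagramMap [IsNoetherian X] [IsAffineHom g] :
    (Functor.whiskerLeft (Scheme.AffineZariskiSite.toOpensFunctor X).op (normDiagramMap g R)).Coequifibered := by
  refine Scheme.AffineZariskiSite.coequifibered_iff_forall_isLocalizationAway.2 fun U r => ?_
  let j := (V0 g R).ι
  let D := X.basicOpen r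
  have hDU : D ≤ U.1 := X.basicOpen_le r
  letI algBD : Algebra (normRing g R U.1) (normRing g R D) := ((normDiagram g R).map (homOfLE hDU).op).hom.toAlgebra
  letI algBD' : Algebra ((normDiagram g R).obj (op U.1)) (normRing g R D) := algBD
  change IsLocalization.Away ((normDiagramMap g R).app (op U.1) r) (normRing g R D)
  let rB : normRing g R U.1 := ((normDiagramMap g R).app (op U.1) r)
  change IsLocalization.Away rB (normRing g R D)
  have halg : ∀ b : normRing g R U.1, ((algebraMap (normRing g R U.1) (normRing g R D) b : normRing g R D) :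
      Γ((V0 g R).toScheme, j ⁻¹ᵁ D)) = M1.ores (j.preimage_mono hDU) (b : Γ((V0 g R).toScheme, j ⁻¹ᵁ U.1)) :=
    fun b => rfl
  have hru : IsUnit (M1.ores hDU r) := RingedSpace.isUnit_res_basicOpen X.toRingedSpace r
  have hrD : ((algebraMap (normRing g R U.1) (normRing g R D) rB : normRing g R D) :
      Γ((V0 g R).toScheme, j ⁻¹ᵁ D)) = j.app D (M1.ores hDU r) := (halg rB).trans (ores_app (g := j) hDU r)
  haveI := U.2.isLocalization_basicOpen r
  refine IsLocalization.Away.mk rB ?_ (fun s => ?_) (fun a b hab => ?_)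
  · obtain ⟨w, hw⟩ := isUnit_iff_exists_inv.1 hru
    refine isUnit_iff_exists_inv.2 ⟨⟨j.app D w, app_mem_normRing D w⟩, Subtype.ext ?_⟩
    show (algebraMap (normRing g R U.1) (normRing g R D) rB : Γ((V0 g R).toScheme, j ⁻¹ᵁ D)) * j.app D w = 1
    rw [hrD, ← map_mul, hw, map_one]
  · let S : Subring Γ((V0 g R).toScheme, j ⁻¹ᵁ D) :=
      { carrier := {b | ∃ (k : ℕ) (c : normRing g R U.1),
          b * (j.app D (M1.ores hDU r)) ^ k = M1.ores (j.preimage_mono hDU) (c : Γ((V0 g R).toScheme, j ⁻¹ᵁ U.1))}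
        one_mem' := ⟨0, 1, by simp⟩
        zero_mem' := ⟨0, 0, by simp⟩
        mul_mem' := fun {b b'} ⟨k, c, hc⟩ ⟨k', c', hc'⟩ => ⟨k + k', c * c', by
          rw [Subring.coe_mul, map_mul, ← hc, ← hc', pow_add, mul_mul_mul_comm]⟩
        add_mem' := fun {b b'} ⟨k, c, hc⟩ ⟨k', c', hc'⟩ => ⟨k + k', c * rB ^ k' + c' * rB ^ k, by
          rw [Subring.coe_add, Subring.coe_mul, Subring.coe_mul, SubmonoidClass.coe_pow, SubmonoidClass.coe_pow,
            map_add, map_mul, map_mul, map_pow, map_pow, ← hc, ← hc', ← halg rB, hrD]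
          ring⟩
        neg_mem' := fun {b} ⟨k, c, hc⟩ => ⟨k, -c, by rw [Subring.coe_neg, map_neg, ← hc, neg_mul]⟩ }
    have hle : normRing g R D ≤ S := by
      refine Subring.closure_le.2 ?_
      rintro _ (⟨c, rfl⟩ | ⟨a, rfl⟩)
      · obtain ⟨k, u, hu⟩ := IsLocalization.Away.surj r c
        refine ⟨k, ⟨j.app U.1 u, app_mem_normRing _ _⟩, ?_⟩
        show j.app D c * (j.app D (M1.ores hDU r)) ^ k = M1.ores (j.preimage_mono hDU) (j.app U.1 u)
        rw [ores_app (g := j) hDU, ← map_pow, ← map_mul]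
        exact congrArg _ hu
      · have hU' := U.2.preimage g
        haveI := hU'.isLocalization_basicOpen (g.app U.1 r)
        have hle' : X'.basicOpen (g.app U.1 r) = g ⁻¹ᵁ D := (g.preimage_basicOpen r).symm
        obtain ⟨k, u, hu⟩ := IsLocalization.Away.surj (g.app U.1 r) (M1.ores hle'.le a)
        have hu' : a * g.app D (M1.ores hDU r) ^ k = M1.ores (g.preimage_mono hDU) u := by
          have h1 := congrArg (M1.ores hle'.ge) (show M1.ores hle'.le a *
            (M1.ores (X'.basicOpen_le _) (g.app U.1 r)) ^ k = M1.ores (X'.basicOpen_le _) u from hu)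
          rw [map_mul, map_pow, ores_ores, ores_ores, ores_ores, ores_id] at h1
          rw [← ores_app hDU]
          exact h1
        refine ⟨R * k, ⟨nV g R U.1 u, nV_mem_normRing _ _⟩, ?_⟩
        show nV g R D a * (j.app D (M1.ores hDU r)) ^ (R * k) = M1.ores (j.preimage_mono hDU) (nV g R U.1 u)
        rw [ores_nV hDU, ← hu', nV_mul]
        refine congrArg (nV g R D a * ·) ?_
        have h2 : nV g R D (g.app D ((M1.ores hDU r) ^ k)) = j.app D ((M1.ores hDU r) ^ k) ^ R := nV_app D _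
        rw [map_pow, map_pow, ← pow_mul, mul_comm k R] at h2
        exact h2.symm
    obtain ⟨k, c, hc⟩ := hle s.2
    refine ⟨k, c, Subtype.ext ?_⟩
    rw [Subring.coe_mul, SubmonoidClass.coe_pow, hrD]
    exact hc.trans (halg c).symm
  · have hq : IsQuasiSeparated (((j ⁻¹ᵁ U.1 : (V0 g R).toScheme.Opens)) : Set (V0 g R).toScheme) :=
      by
        have h := ((j ⁻¹ᵁ U.1).ι.isOpenEmbedding.isQuasiSeparated_iff).mp (isQuasiSeparated_univ_iff.2 inferInstance)
        rwa [Set.image_univ, Scheme.Opens.range_ι] at h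
    haveI := isLocalization_basicOpen_of_qcqs (isCompact_preimage_V0 (g := g) (R := R) U.1) hq (j.app U.1 r)
    have heq : (V0 g R).toScheme.basicOpen (j.app U.1 r) = j ⁻¹ᵁ D := (j.preimage_basicOpen r).symm
    have h1 : M1.ores ((V0 g R).toScheme.basicOpen_le (j.app U.1 r)) (a : Γ((V0 g R).toScheme, j ⁻¹ᵁ U.1)) =
        M1.ores ((V0 g R).toScheme.basicOpen_le (j.app U.1 r)) (b : Γ((V0 g R).toScheme, j ⁻¹ᵁ U.1)) := by
      have h2 := congrArg (M1.ores heq.le) (((halg a).symm.trans (congrArg Subtype.val hab)).trans (halg b))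
      rwa [ores_ores, ores_ores] at h2
    obtain ⟨⟨_, k, rfl⟩, hk⟩ := IsLocalization.exists_of_eq (M := Submonoid.powers (j.app U.1 r)) h1
    refine ⟨k, Subtype.ext ?_⟩
    rw [Subring.coe_mul, Subring.coe_mul, SubmonoidClass.coe_pow]
    exact hk

/-- The image of a norm ring in a finite product of charts is a finite module. -/
theorem exists_embedding [IsNoetherian X] [IsFinite g] (hR : 0 < R) {U : X.Opens} (hU : IsAffineOpen U) :
    letI := ((V0 g R).ι.app U).hom.toAlgebra
    ∃ (P : Type u) (_ : AddCommGroup P) (_ : Module Γ(X, U) P)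
      (Φ : Γ((V0 g R).toScheme, (V0 g R).ι ⁻¹ᵁ U) →ₗ[Γ(X, U)] P) (M : Submodule Γ(X, U) P),
      Function.Injective Φ ∧ M.FG ∧
        ∀ (J : Ideal Γ(X, U)) (a : Γ(X', g ⁻¹ᵁ U)), a ∈ J.map (g.app U).hom → Φ (nV g R U a) ∈ J • M := by
  classical
  let j := (V0 g R).ι
  letI := (j.app U).hom.toAlgebra
  obtain ⟨s, hs⟩ := (isCompact_preimage_V0 (g := g) (R := R) U).elim_finite_subcover
    (fun i : Good g R U => ((j ⁻¹ᵁ i.T : (V0 g R).toScheme.Opens) : Set (V0 g R).toScheme))
    (fun i => (j ⁻¹ᵁ i.T).2) (fun z hz => Set.mem_iUnion.2 (Opens.mem_iSup.1 (le_preimage_goods U hz)))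
  letI algT : ∀ i : {i // i ∈ s}, Algebra Γ(X, U) Γ((V0 g R).toScheme, j ⁻¹ᵁ i.1.T) := fun i =>
    (j.appLE U (j ⁻¹ᵁ i.1.T) (j.preimage_mono i.1.le)).hom.toAlgebra
  choose M hMfg hM using fun i : {i // i ∈ s} => exists_fg_submodule hR hU i.1
  let φ : ∀ i : {i // i ∈ s}, Γ((V0 g R).toScheme, j ⁻¹ᵁ U) →ₗ[Γ(X, U)] Γ((V0 g R).toScheme, j ⁻¹ᵁ i.1.T) := fun i =>
    { toFun := M1.ores (j.preimage_mono i.1.le)
      map_add' := map_add _
      map_smul' := fun c x => by
        show M1.ores _ (j.app U c * x) = j.appLE U _ _ c * _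
        rw [map_mul]
        rfl }
  refine ⟨∀ i : {i // i ∈ s}, Γ((V0 g R).toScheme, j ⁻¹ᵁ i.1.T), inferInstance, inferInstance,
    LinearMap.pi φ, Submodule.pi Set.univ M, ?_, Submodule.fg_pi hMfg, fun J a ha => ?_⟩
  · intro x y hxy
    refine (V0 g R).toScheme.sheaf.eq_of_locally_eq' (fun i : {i // i ∈ s} => j ⁻¹ᵁ i.1.T) _
      (fun i => homOfLE (j.preimage_mono i.1.le)) (fun z hz => ?_) x y fun i => congrFun hxy i
    obtain ⟨i, hi, hzi⟩ := Set.mem_iUnion₂.1 (hs hz)
    exact Opens.mem_iSup.2 ⟨⟨i, hi⟩, hzi⟩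
  · rw [← Finset.univ_sum_single (LinearMap.pi φ (nV g R U a))]
    refine Submodule.sum_mem _ fun i _ => ?_
    have h1 : LinearMap.single Γ(X, U) (fun i : {i // i ∈ s} => Γ((V0 g R).toScheme, j ⁻¹ᵁ i.1.T)) i
        (φ i (nV g R U a)) ∈ J • (M i).map (LinearMap.single Γ(X, U) _ i) := by
      rw [← Submodule.map_smul'']
      exact ⟨_, hM i J a ha, rfl⟩
    refine Submodule.smul_mono le_rfl ?_ h1
    rintro _ ⟨y, hy, rfl⟩ k -
    rw [LinearMap.single_apply]
    by_cases hk : k = i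
    · subst hk
      rwa [Pi.single_eq_same]
    · rw [Pi.single_eq_of_ne hk]
      exact zero_mem _

/-- The norm ring is contained in the span of the norms. -/
theorem normRing_le_span (U : X.Opens) :
    letI := ((V0 g R).ι.app U).hom.toAlgebra
    ∀ b ∈ normRing g R U, b ∈ Submodule.span Γ(X, U) (Set.range (nV g R U)) := by
  letI := ((V0 g R).ι.app U).hom.toAlgebra
  let j := (V0 g R).ι
  intro b hb
  refine Subring.closure_induction (p := fun b _ => b ∈ Submodule.span Γ(X, U) (Set.range (nV g R U))) ?_ (zero_mem _)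
    ?_ (fun _ _ _ _ => add_mem) (fun _ _ => neg_mem) (fun x y _ _ hx hy => ?_) hb
  · rintro _ (⟨c, rfl⟩ | ⟨a, rfl⟩)
    · rw [show j.app U c = c • (1 : Γ((V0 g R).toScheme, j ⁻¹ᵁ U)) from (mul_one _).symm, ← nV_one U]
      exact Submodule.smul_mem _ _ (Submodule.subset_span ⟨1, rfl⟩)
    · exact Submodule.subset_span ⟨a, rfl⟩
  · rw [← nV_one U]
    exact Submodule.subset_span ⟨1, rfl⟩
  · refine Submodule.span_induction (p := fun x _ => x * y ∈ Submodule.span Γ(X, U) (Set.range (nV g R U))) ?_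
      (by simp) (fun _ _ _ _ h h' => by rw [add_mul]; exact add_mem h h')
      (fun c _ _ h => by rw [smul_mul_assoc]; exact Submodule.smul_mem _ c h) hx
    rintro _ ⟨a, rfl⟩
    refine Submodule.span_induction (p := fun y _ => nV g R U a * y ∈ Submodule.span Γ(X, U) (Set.range (nV g R U))) ?_
      (by simp) (fun _ _ _ _ h h' => by rw [mul_add]; exact add_mem h h')
      (fun c _ _ h => by rw [mul_smul_comm]; exact Submodule.smul_mem _ c h) hy
    rintro _ ⟨a', rfl⟩
    exact Submodule.subset_span ⟨a * a', nV_mul U a a'⟩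

/-- The algebra structure of the norm ring. -/
abbrev normAlgebra (U : X.Opens) : Algebra Γ(X, U) (normRing g R U) :=
  ((normDiagramMap g R).app (op U)).hom.toAlgebra

/-- The norm ring as a module inside a finite module. -/
theorem exists_injective_linearMap [IsNoetherian X] [IsFinite g] (hR : 0 < R) {U : X.Opens} (hU : IsAffineOpen U) :
    letI := normAlgebra (g := g) (R := R) U
    ∃ (M : Type u) (_ : AddCommGroup M) (_ : Module Γ(X, U) M) (_ : Module.Finite Γ(X, U) M)
      (Φ : normRing g R U →ₗ[Γ(X, U)] M), Function.Injective Φ ∧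
        ∀ (J : Ideal Γ(X, U)) (a : Γ(X', g ⁻¹ᵁ U)), a ∈ J.map (g.app U).hom →
          Φ ⟨nV g R U a, nV_mem_normRing U a⟩ ∈ J • (⊤ : Submodule Γ(X, U) M) := by
  letI := normAlgebra (g := g) (R := R) U
  letI := ((V0 g R).ι.app U).hom.toAlgebra
  obtain ⟨P, _, _, Φ, M, hinj, hfg, hJ⟩ := exists_embedding (g := g) hR hU
  have hmem : ∀ b ∈ normRing g R U, Φ b ∈ M := fun b hb => by
    have h1 : Submodule.span Γ(X, U) (Set.range (nV g R U)) ≤ M.comap Φ := by
      refine Submodule.span_le.2 ?_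
      rintro _ ⟨a, rfl⟩
      have := hJ ⊤ a (by rw [Ideal.map_top]; trivial)
      rwa [Submodule.top_smul] at this
    exact h1 (normRing_le_span U b hb)
  let incl : normRing g R U →ₗ[Γ(X, U)] Γ((V0 g R).toScheme, (V0 g R).ι ⁻¹ᵁ U) :=
    { toFun := fun b => b.1, map_add' := fun _ _ => rfl, map_smul' := fun _ _ => rfl }
  refine ⟨M, inferInstance, inferInstance, Module.Finite.iff_fg.2 hfg,
    (Φ ∘ₗ incl).codRestrict M fun b => hmem b.1 b.2, ?_, fun J a ha => ?_⟩
  · exact fun b b' h => Subtype.ext (hinj (congrArg Subtype.val h))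
  · have h1 := hJ J a ha
    rw [← M.range_subtype, ← Submodule.map_top, ← Submodule.map_smul''] at h1
    obtain ⟨y, hy, hye⟩ := h1
    obtain rfl : y = ((Φ ∘ₗ incl).codRestrict M fun b => hmem b.1 b.2) ⟨nV g R U a, nV_mem_normRing U a⟩ := Subtype.ext hye
    exact hy

theorem finite_normRing [IsNoetherian X] [IsFinite g] (hR : 0 < R) {U : X.Opens} (hU : IsAffineOpen U) :
    letI := normAlgebra (g := g) (R := R) U
    Module.Finite Γ(X, U) (normRing g R U) := by
  letI := normAlgebra (g := g) (R := R) U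
  haveI : IsNoetherianRing Γ(X, U) := IsLocallyNoetherian.component_noetherian (X := X) ⟨U, hU⟩
  obtain ⟨M, _, _, _, Φ, hinj, -⟩ := exists_injective_linearMap (g := g) hR hU
  exact Module.Finite.of_injective Φ hinj

/-- Norms of functions vanishing over a point lie in the primes over it. -/
theorem nV_mem_prime [IsNoetherian X] [IsFinite g] (hR : 0 < R) {U : X.Opens} (hU : IsAffineOpen U) {x : X} (hx : x ∈ U)
    (a : Γ(X', g ⁻¹ᵁ U)) (hall : ∀ x' : X', g x' = x → x' ∉ X'.basicOpen a)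
    (P : Ideal (normRing g R U)) [P.IsPrime]
    (hP : P.comap ((normDiagramMap g R).app (op U)).hom = (hU.primeIdealOf ⟨x, hx⟩).asIdeal) :
    (⟨nV g R U a, nV_mem_normRing U a⟩ : normRing g R U) ∈ P := by
  classical
  let p := (hU.primeIdealOf ⟨x, hx⟩).asIdeal
  letI := normAlgebra (g := g) (R := R) U
  letI algU : Algebra Γ(X, U) Γ(X', g ⁻¹ᵁ U) := (g.app U).hom.toAlgebra
  let I := p.map (g.app U).hom
  obtain ⟨s, hs, k, hsk⟩ : ∃ s ∉ p, ∃ k : ℕ, g.app U s * a ^ k ∈ I := by
    by_contra hcon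
    push Not at hcon
    have hdisj : Disjoint (I : Set Γ(X', g ⁻¹ᵁ U))
        ((p.primeCompl.map (g.app U).hom ⊔ Submonoid.powers a : Submonoid Γ(X', g ⁻¹ᵁ U)) : Set Γ(X', g ⁻¹ᵁ U)) := by
      rw [Set.disjoint_left]
      intro y hyI hyS
      obtain ⟨_, ⟨s, hs, rfl⟩, _, ⟨k, rfl⟩, rfl⟩ := Submonoid.mem_sup.1 hyS
      exact hcon s hs k hyI
    obtain ⟨q, hq, hIq, hqS⟩ := Ideal.exists_le_prime_disjoint I _ hdisj
    have hqp : q.comap (g.app U).hom = p := by
      refine le_antisymm (fun s hs => ?_) (Ideal.map_le_iff_le_comap.1 hIq)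
      by_contra hsp
      exact Set.disjoint_left.1 hqS hs (SetLike.mem_coe.2 (Submonoid.mem_sup_left ⟨s, hsp, rfl⟩))
    obtain ⟨x', hx', hmem⟩ := exists_point_over hU q hx hqp
    exact Set.disjoint_left.1 hqS (hmem a (hall x' hx'))
      (SetLike.mem_coe.2 (Submonoid.mem_sup_right (Submonoid.mem_powers a)))
  let N : Γ(X', g ⁻¹ᵁ U) → normRing g R U := fun c => ⟨nV g R U c, nV_mem_normRing U c⟩
  have hNmul : ∀ c d, N (c * d) = N c * N d := fun c d => Subtype.ext (nV_mul U c d)
  have hNpow : ∀ c (m : ℕ), N (c ^ m) = N c ^ m := fun c m => by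
    induction m with
    | zero => rw [pow_zero, pow_zero]; exact Subtype.ext (nV_one U)
    | succ m ih => rw [pow_succ, pow_succ, hNmul, ih]
  haveI : IsNoetherianRing Γ(X, U) := IsLocallyNoetherian.component_noetherian (X := X) ⟨U, hU⟩
  obtain ⟨M, _, _, _, Φ, hinj, hJ⟩ := exists_injective_linearMap (g := g) hR hU
  let y := g.app U s * a ^ k
  obtain ⟨c, hc⟩ := p.exists_pow_inf_eq_pow_smul (LinearMap.range Φ)
  have hy : N y ^ (c + 1) ∈ P := by
    rw [← hNpow]
    have h1 : Φ (N (y ^ (c + 1))) ∈ p ^ (c + 1) • (⊤ : Submodule Γ(X, U) M) ⊓ LinearMap.range Φ :=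
      ⟨hJ _ _ (by rw [Ideal.map_pow]; exact Ideal.pow_mem_pow hsk _), ⟨_, rfl⟩⟩
    rw [hc (c + 1) (by omega), Nat.add_sub_cancel_left, pow_one] at h1
    have h2 : Φ (N (y ^ (c + 1))) ∈ (p • ⊤ : Submodule Γ(X, U) (normRing g R U)).map Φ := by
      rw [Submodule.map_smul'', Submodule.map_top]
      exact Submodule.smul_mono le_rfl inf_le_right h1
    obtain ⟨b, hb, hbe⟩ := h2
    rw [hinj hbe, Ideal.smul_top_eq_map] at hb
    exact (Ideal.map_le_iff_le_comap.2 hP.ge) hb
  have h3 : N (g.app U s) * N a ^ k ∈ P := by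
    rw [← hNpow, ← hNmul]
    exact Ideal.IsPrime.mem_of_pow_mem inferInstance _ hy
  rcases Ideal.IsPrime.mem_or_mem inferInstance h3 with h4 | h4
  · exfalso
    refine hs ((hP.le ?_ : s ∈ p))
    rw [Ideal.mem_comap]
    refine Ideal.IsPrime.mem_of_pow_mem inferInstance R ?_
    have h5 : N (g.app U s) = ((normDiagramMap g R).app (op U)).hom s ^ R := Subtype.ext (nV_app U s)
    exact (congrArg (· ∈ P) h5).mp h4
  · exact Ideal.IsPrime.mem_of_pow_mem inferInstance _ h4

end Groth.Agent.Norm11
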