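import Groth.Agent.Lib.Norm11.General
import Mathlib.RingTheory.TensorProduct.Finite
import Mathlib.RingTheory.IntegralClosure.IntegrallyClosed

/-!
Norms near a normal point.
-/

set_option autoImplicit false

universe u

open CategoryTheory Limits AlgebraicGeometry TopologicalSpace Opposite TensorProduct

set_option backward.isDefEq.respectTransparency false

noncomputable section

namespace Groth.Agent.Norm11

open Groth.Agent.M1

variable {X X' : Scheme.{u}} {g : X' ⟶ X}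

theorem nonempty_inter_of_isDomain {U : X.Opens} (hU : IsAffineOpen U) [IsDomain Γ(X, U)] {O₁ O₂ : X.Opens}
    (h₁ : ((O₁ : Set X) ∩ U).Nonempty) (h₂ : ((O₂ : Set X) ∩ U).Nonempty) :
    ((O₁ : Set X) ∩ O₂ ∩ U).Nonempty := by
  let η : Spec Γ(X, U) := ⟨⊥, Ideal.isPrime_bot⟩
  have key : ∀ O : X.Opens, ((O : Set X) ∩ U).Nonempty → hU.fromSpec η ∈ O := fun O ⟨x, hxO, hxU⟩ => by
    obtain ⟨y, rfl⟩ : x ∈ Set.range hU.fromSpec := by rwa [hU.range_fromSpec]
    exact ((PrimeSpectrum.le_iff_specializes η y).1 bot_le).mem_open (hU.fromSpec ⁻¹ᵁ O).2 hxO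
  refine ⟨hU.fromSpec η, ⟨key _ h₁, key _ h₂⟩, ?_⟩
  rw [← hU.range_fromSpec]
  exact ⟨η, rfl⟩

theorem exists_point_over [IsAffineHom g] {U : X.Opens} (hU : IsAffineOpen U)
    (q : Ideal Γ(X', g ⁻¹ᵁ U)) [q.IsPrime] {x : X} (hx : x ∈ U)
    (hq : q.comap (g.app U).hom = (hU.primeIdealOf ⟨x, hx⟩).asIdeal) :
    ∃ x' : X', g x' = x ∧ ∀ a : Γ(X', g ⁻¹ᵁ U), x' ∉ X'.basicOpen a → a ∈ q := by
  let hU' := hU.preimage g
  refine ⟨hU'.fromSpec ⟨q, inferInstance⟩, ?_, fun a ha => ?_⟩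
  · rw [← Scheme.Hom.comp_apply, ← IsAffineOpen.SpecMap_appLE_fromSpec g hU hU' le_rfl, Scheme.Hom.comp_apply]
    refine Eq.trans (congrArg hU.fromSpec ?_) (hU.fromSpec_primeIdealOf ⟨x, hx⟩)
    refine PrimeSpectrum.ext ?_
    rw [← hq, Scheme.Hom.app_eq_appLE]
    rfl
  · by_contra hne
    refine ha ?_
    show (⟨q, inferInstance⟩ : Spec Γ(X', g ⁻¹ᵁ U)) ∈ hU'.fromSpec ⁻¹ᵁ X'.basicOpen a
    rw [hU'.fromSpec_preimage_basicOpen]
    exact hne

theorem exists_norm_near [IsReduced X] [IsLocallyNoetherian X] [IsFinite g] {R : ℕ} (hR : 0 < R)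
    (hd : ∀ U : X.Opens, (U : Set X).Nonempty → ∃ i : Good g R ⊤, ((U : Set X) ∩ i.T).Nonempty)
    {W : X.Opens} {x : X} (hx : x ∈ W) [IsDomain (X.presheaf.stalk x)] [IsIntegrallyClosed (X.presheaf.stalk x)]
    (a : Γ(X', g ⁻¹ᵁ W)) :
    ∃ (V : X.Opens) (hV : V ≤ W) (c : Γ(X, V)), x ∈ V ∧
      IsNorm g (𝟙 X) R V (ores (g.preimage_mono hV) a) c ∧
      ((∀ x' : X', g x' = x → x' ∉ X'.basicOpen a) → x ∉ X.basicOpen c) := by
  classical
  obtain ⟨U, hU, hxU, hUW, hdom⟩ := exists_affine_isDomain hx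
  obtain ⟨i₀, x₀, hx₀U, hx₀T⟩ := hd U ⟨x, hxU⟩
  obtain ⟨f, hfle, hx₀f⟩ := hU.exists_basicOpen_le (V := i₀.T) ⟨x₀, hx₀T⟩ hx₀U
  let D := X.basicOpen f
  have hDU : D ≤ U := X.basicOpen_le f
  have hf0 : f ≠ 0 := by
    rintro rfl
    rw [Scheme.basicOpen_zero] at hx₀f
    exact hx₀f
  let eD := fun j => ores (g.preimage_mono hfle) (i₀.e j)
  have heD : IsABas g D eD := i₀.bas.ores hfle
  let p := (hU.primeIdealOf ⟨x, hxU⟩).asIdeal
  let O := Localization.AtPrime p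
  let := TopCat.Presheaf.algebra_section_stalk X.presheaf (⟨x, hxU⟩ : U)
  haveI := hU.isLocalization_stalk ⟨x, hxU⟩
  let eO : X.presheaf.stalk x ≃+* O :=
    (IsLocalization.algEquiv p.primeCompl (X.presheaf.stalk x) O).toRingEquiv
  haveI : IsDomain O := MulEquiv.isDomain (X.presheaf.stalk x) eO.symm.toMulEquiv
  haveI : IsIntegrallyClosed O := IsIntegrallyClosed.of_equiv eO
  let K := FractionRing O
  have hinj : Function.Injective (algebraMap Γ(X, U) O) :=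
    IsLocalization.injective O (p.primeCompl_le_nonZeroDivisors)
  have hfK : IsUnit (algebraMap Γ(X, U) K f) := by
    rw [isUnit_iff_ne_zero, IsScalarTower.algebraMap_apply Γ(X, U) O K, map_ne_zero_iff _ (IsFractionRing.injective O K),
      map_ne_zero_iff _ hinj]
    exact hf0
  haveI := hU.isLocalization_basicOpen f
  let ι : Γ(X, D) →+* K := IsLocalization.Away.lift f hfK
  have hι : ∀ u : Γ(X, U), ι (ores hDU u) = algebraMap Γ(X, U) K u := fun u =>
    IsLocalization.Away.lift_eq (S := Γ(X, X.basicOpen f)) f hfK u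
  have hιinj : Function.Injective ι := by
    refine (injective_iff_map_eq_zero ι).2 fun z hz => ?_
    obtain ⟨⟨u, t⟩, hut⟩ := IsLocalization.surj (Submonoid.powers f) z
    have h1 : algebraMap Γ(X, U) K u = 0 := by
      rw [← hι, show ores hDU u = z * algebraMap Γ(X, U) Γ(X, X.basicOpen f) t from hut.symm, map_mul, hz, zero_mul]
    rw [IsScalarTower.algebraMap_apply Γ(X, U) O K, ← map_zero (algebraMap O K)] at h1
    have h2 : algebraMap Γ(X, U) O u = 0 := IsFractionRing.injective O K h1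
    have h3 : u = 0 := hinj (h2.trans (map_zero _).symm)
    exact (IsLocalization.map_units Γ(X, X.basicOpen f) t).mul_left_eq_zero.1 (hut.trans (by rw [h3, map_zero]))
  letI algD : Algebra Γ(X, D) Γ(X', g ⁻¹ᵁ D) := (g.app D).hom.toAlgebra
  letI algU : Algebra Γ(X, U) Γ(X', g ⁻¹ᵁ U) := (g.app U).hom.toAlgebra
  haveI : Module.Finite Γ(X, U) Γ(X', g ⁻¹ᵁ U) := IsFinite.finite_app g U hU
  let ψ : Γ(X', g ⁻¹ᵁ U) →+* Matrix (Fin i₀.r) (Fin i₀.r) K :=
    ι.mapMatrix.comp ((Algebra.leftMulMatrix heD.basis).toRingHom.comp (ores (g.preimage_mono hDU)).hom)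
  have hψ : ∀ u : Γ(X, U), ψ (algebraMap Γ(X, U) Γ(X', g ⁻¹ᵁ U) u) = algebraMap Γ(X, U) _ u := fun u => by
    show ι.mapMatrix (Algebra.leftMulMatrix heD.basis (ores (g.preimage_mono hDU) (g.app U u))) = _
    rw [ores_app hDU, show g.app D (ores hDU u) = algebraMap Γ(X, D) Γ(X', g ⁻¹ᵁ D) (ores hDU u) from rfl,
      AlgHom.commutes, Matrix.algebraMap_eq_diagonal, Matrix.algebraMap_eq_diagonal, RingHom.mapMatrix_apply,
      Matrix.diagonal_map (map_zero ι)]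
    refine congrArg Matrix.diagonal (funext fun _ => ?_)
    simp only [Pi.algebraMap_apply, Algebra.algebraMap_self, RingHom.id_apply]
    exact hι u
  let ψ' : Γ(X', g ⁻¹ᵁ U) →ₐ[Γ(X, U)] Matrix (Fin i₀.r) (Fin i₀.r) K := ⟨ψ, hψ⟩
  let φ : O ⊗[Γ(X, U)] Γ(X', g ⁻¹ᵁ U) →ₐ[O] Matrix (Fin i₀.r) (Fin i₀.r) K :=
    Algebra.TensorProduct.lift (Algebra.ofId O _) ψ' fun o b => Algebra.commutes o (ψ' b)
  let aU : Γ(X', g ⁻¹ᵁ U) := ores (g.preimage_mono hUW) a
  obtain ⟨cO, hcO, hvan⟩ := exists_det_eq φ (1 ⊗ₜ aU)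
  have hφ : φ (1 ⊗ₜ aU) = ι.mapMatrix (Algebra.leftMulMatrix heD.basis (ores (g.preimage_mono (hDU.trans hUW)) a)) := by
    rw [Algebra.TensorProduct.lift_tmul, map_one, one_mul]
    show ι.mapMatrix (Algebra.leftMulMatrix heD.basis (ores (g.preimage_mono hDU) aU)) = _
    rw [ores_ores]
  obtain ⟨⟨u₀, t⟩, hut⟩ := IsLocalization.surj p.primeCompl cO
  have hkey : ores hDU u₀ = nrm g D (ores (g.preimage_mono (hDU.trans hUW)) a) * ores hDU (t : Γ(X, U)) := by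
    refine hιinj ?_
    rw [map_mul, hι, hι, nrm, Algebra.norm_eq_matrix_det heD.basis, RingHom.map_det, ← hφ, ← hcO,
      IsScalarTower.algebraMap_apply Γ(X, U) O K, IsScalarTower.algebraMap_apply Γ(X, U) O K (t : Γ(X, U)),
      ← map_mul, hut]
  let V := X.basicOpen (t : Γ(X, U))
  have hVU : V ≤ U := X.basicOpen_le _
  have htV : IsUnit (ores hVU (t : Γ(X, U))) := RingedSpace.isUnit_res_basicOpen X.toRingedSpace _
  have hxV : x ∈ V := by
    have h1 : hU.primeIdealOf ⟨x, hxU⟩ ∈ hU.fromSpec ⁻¹ᵁ V := by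
      rw [hU.fromSpec_preimage_basicOpen]
      exact t.2
    have h2 : hU.fromSpec (hU.primeIdealOf ⟨x, hxU⟩) ∈ V := h1
    rwa [hU.fromSpec_primeIdealOf ⟨x, hxU⟩] at h2
  let c₀ : Γ(X, V) := ores hVU u₀ * ↑htV.unit⁻¹
  refine ⟨V, hVU.trans hUW, c₀ ^ (R / i₀.r), hxV, fun i => ?_, fun hall => ?_⟩
  · show ores i.le (c₀ ^ (R / i₀.r)) = nrm g i.T _ ^ (R / i.r)
    have hT : i.T ⊓ D ≤ i.T := inf_le_left
    refine eq_of_dense _ _ (fun _ : Unit => i.T ⊓ D) (fun _ => hT) (fun O' hO' hne => ⟨(), ?_⟩) fun _ => ?_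
    · obtain ⟨y, hyO⟩ := hne
      obtain ⟨w, ⟨hw₁, hw₂⟩, -⟩ := nonempty_inter_of_isDomain hU (O₁ := O') (O₂ := D)
        ⟨y, hyO, hVU (i.le (hO' hyO))⟩ ⟨x₀, hx₀f, hx₀U⟩
      exact ⟨w, hw₁, hO' hw₁, hw₂⟩
    · rw [ores_ores, map_pow, map_pow, i.bas.ores_nrm hT, ores_ores, ores_ores]
      have h0 : ores (hT.trans i.le) c₀ =
          nrm g (i.T ⊓ D) (ores (g.preimage_mono ((hT.trans i.le).trans (hVU.trans hUW))) a) := by
        have h3 := congrArg (ores (inf_le_right : i.T ⊓ D ≤ D)) hkey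
        rw [map_mul, ores_ores, ores_ores, heD.ores_nrm inf_le_right, ores_ores] at h3
        refine (htV.map (ores (hT.trans i.le)).hom).mul_left_injective ?_
        show ores (hT.trans i.le) c₀ * ores (hT.trans i.le) (ores hVU (t : Γ(X, U))) =
          nrm g _ _ * ores (hT.trans i.le) (ores hVU (t : Γ(X, U)))
        rw [← map_mul, mul_assoc, IsUnit.val_inv_mul, mul_one, ores_ores, ores_ores]
        exact h3
      rw [h0]
      rcases (i.bas.ores hT).rank_eq (heD.ores (inf_le_right : i.T ⊓ D ≤ D)) with h | h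
      · rw [h]
      · exact h _ _
  · have hcp : cO ∈ IsLocalRing.maximalIdeal O := by
      refine hvan i₀.pos _ inferInstance ?_
      rw [Ideal.radical_eq_sInf]
      refine Submodule.mem_sInf.2 fun q ⟨hle, hq⟩ => ?_
      haveI := hq
      have hqO : Ideal.comap (algebraMap O (O ⊗[Γ(X, U)] Γ(X', g ⁻¹ᵁ U))) q = IsLocalRing.maximalIdeal O :=
        ((IsLocalRing.maximalIdeal.isMaximal O).eq_of_le (Ideal.IsPrime.ne_top inferInstance)
          (Ideal.map_le_iff_le_comap.1 hle)).symm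
      let q' : Ideal Γ(X', g ⁻¹ᵁ U) := Ideal.comap (Algebra.TensorProduct.includeRight : _ →ₐ[Γ(X, U)] O ⊗[Γ(X, U)] _) q
      have hq' : q'.comap (g.app U).hom = p := by
        rw [← IsLocalization.AtPrime.comap_maximalIdeal O p, ← hqO]
        ext u
        show (Algebra.TensorProduct.includeRight : _ →ₐ[Γ(X, U)] O ⊗[Γ(X, U)] _) (algebraMap Γ(X, U) _ u) ∈ q ↔ _
        rw [AlgHom.commutes, IsScalarTower.algebraMap_apply Γ(X, U) O (O ⊗[Γ(X, U)] Γ(X', g ⁻¹ᵁ U))]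
        rfl
      obtain ⟨x', hx', hmem⟩ := exists_point_over hU q' hxU hq'
      exact hmem aU fun hx'' => hall x' hx' ((X'.basicOpen_res a (homOfLE (g.preimage_mono hUW)).op).le hx'').2
    intro hmem
    have hu : u₀ ∈ p := by
      rw [← IsLocalization.AtPrime.comap_maximalIdeal O p, Ideal.under_def, Ideal.mem_comap]
      rw [← hut]
      exact Ideal.mul_mem_right _ _ hcp
    have hn : 0 < R / i₀.r := Nat.div_pos (Nat.le_of_dvd hR i₀.dvd) i₀.pos
    have h1 := (RingedSpace.basicOpen_pow X.toRingedSpace c₀ _ hn).le hmem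
    rw [show X.toRingedSpace.basicOpen c₀ = X.basicOpen c₀ from rfl, Scheme.basicOpen_mul] at h1
    have h2 := ((X.basicOpen_res u₀ (homOfLE hVU).op).le h1.1).2
    have h3 : hU.primeIdealOf ⟨x, hxU⟩ ∈ hU.fromSpec ⁻¹ᵁ X.basicOpen u₀ := by
      have h4 : hU.fromSpec (hU.primeIdealOf ⟨x, hxU⟩) ∈ X.basicOpen u₀ := by
        rw [hU.fromSpec_primeIdealOf ⟨x, hxU⟩]
        exact h2
      exact h4
    rw [hU.fromSpec_preimage_basicOpen] at h3
    exact h3 hu

end Groth.Agent.Norm11
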