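import Groth.Agent.Lib.Norm11.Free
import Groth.Agent.Lib.CurveCoh17.Bases
import Groth.Agent.Lib.Ample18.Ample
import Groth.Prelude.Def_LCI2

/-!
Norm data over an open; relative ampleness and finite surjective morphisms.
-/

set_option autoImplicit false

universe u

open CategoryTheory Limits AlgebraicGeometry TopologicalSpace Opposite

set_option backward.isDefEq.respectTransparency false

noncomputable section

namespace Groth.Agent.Norm11

open Groth.Agent.M1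

variable {X X' Y : Scheme.{u}} {g : X' ⟶ X}

theorem isABas_of_isBas {T : X.Opens} {r : ℕ} {e : Fin r → Γ((Coh.push g).obj (Coh.structureModule X'), T)}
    (he : P1Split.IsBas ((Coh.push g).obj (Coh.structureModule X')) T e) :
    IsABas g T (fun i => (e i : Γ(X', g ⁻¹ᵁ T))) := fun T' le => he T' le

theorem exists_isABas (hfree : FlatMod.IsFinLocFree ((Coh.push g).obj (Coh.structureModule X'))) (x : X) :
    ∃ (T : X.Opens) (r : ℕ) (e : Fin r → Γ(X', g ⁻¹ᵁ T)), x ∈ T ∧ IsABas g T e := by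
  obtain ⟨U, n, hxU, ⟨φ⟩⟩ := hfree x
  have h1 := (P1Split.isBas_coprod (fun _ : Fin n => Coh.structureModule (U : Scheme.{u}))
    (fun _ => one ⊤) fun _ => P1Split.isGen_one ⊤).map_iso φ.symm
  have h2 := P1Split.isBas_of_restrict U.ι _ h1
  exact ⟨U.ι ''ᵁ ⊤, n, _, ⟨⟨x, hxU⟩, trivial, rfl⟩, isABas_of_isBas h2⟩

theorem IsABas.pos [Surjective g] {T : X.Opens} {r : ℕ} {e : Fin r → Γ(X', g ⁻¹ᵁ T)} (he : IsABas g T e)
    {x : X} (hx : x ∈ T) : 0 < r := by
  rcases Nat.eq_zero_or_pos r with rfl | h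
  · exfalso
    obtain ⟨x', hx'⟩ := g.surjective x
    obtain ⟨c, hc⟩ := he.bijective.2 1
    simp only [Finset.univ_eq_empty, Finset.sum_empty] at hc
    have h1 : x' ∈ X'.basicOpen (1 : Γ(X', g ⁻¹ᵁ T)) := by
      rw [Scheme.basicOpen_of_isUnit _ isUnit_one]
      show g x' ∈ T
      rwa [hx']
    rw [← hc, Scheme.basicOpen_zero] at h1
    exact h1
  · exact h

theorem IsABas.restrict (W₀ : X.Opens) {T : X.Opens} {r : ℕ} {e : Fin r → Γ(X', g ⁻¹ᵁ T)} (he : IsABas g T e)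
    {T' : W₀.toScheme.Opens} (hT : W₀.ι ''ᵁ T' ≤ T) :
    IsABas (g ∣_ W₀) T' (fun i => M1.ores ((image_morphismRestrict_preimage g W₀ T').le.trans (g.preimage_mono hT)) (e i) :
      Fin r → Γ((g ⁻¹ᵁ W₀).toScheme, (g ∣_ W₀) ⁻¹ᵁ T')) := by
  intro V hV
  have heq := image_morphismRestrict_preimage g W₀ V
  let ρ : Γ(X', g ⁻¹ᵁ (W₀.ι ''ᵁ V)) →+* Γ(X', (g ⁻¹ᵁ W₀).ι ''ᵁ ((g ∣_ W₀) ⁻¹ᵁ V)) := (M1.ores heq.le).hom
  have hρ : Function.Bijective ρ := by
    refine Function.bijective_iff_has_inverse.2 ⟨M1.ores heq.ge, fun a => ?_, fun a => ?_⟩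
    · exact (ores_ores _ _ _).trans (ores_id _ _)
    · exact (ores_ores _ _ _).trans (ores_id _ _)
  refine (congrArg Function.Bijective (funext fun c => ?_)).mp
    (hρ.comp (he (W₀.ι ''ᵁ V) ((Scheme.Hom.image_mono _ hV).trans hT)))
  show ρ (∑ i, g.app (W₀.ι ''ᵁ V) (c i) * M1.ores _ (e i)) = _
  rw [map_sum]
  refine Finset.sum_congr rfl fun i _ => ?_
  rw [map_mul]
  refine congrArg₂ (· * ·) ?_ ?_
  · show ρ (g.app (W₀.ι ''ᵁ V) (c i)) = (g ∣_ W₀).app V (c i)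
    rw [morphismRestrict_app]
    rfl
  · exact (ores_ores _ _ _).trans (ores_ores (X := X')
      ((image_morphismRestrict_preimage g W₀ T').le.trans (g.preimage_mono hT))
      (Scheme.Hom.image_mono _ ((g ∣_ W₀).preimage_mono hV)) (e i)).symm

/-- A norm datum over a quasi-compact open. -/
theorem exists_normDatum [Surjective g] (hfree : FlatMod.IsFinLocFree ((Coh.push g).obj (Coh.structureModule X')))
    (W₀ : X.Opens) [CompactSpace W₀.toScheme] :
    Nonempty (NormDatum (g ∣_ W₀) (𝟙 W₀.toScheme)) := by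
  classical
  haveI : Surjective (g ∣_ W₀) := MorphismProperty.of_isPullback (isPullback_morphismRestrict g W₀).flip inferInstance
  choose T r e hxT he using exists_isABas hfree
  have hcov : (Set.univ : Set W₀.toScheme) ⊆ ⋃ x : X, ((W₀.ι ⁻¹ᵁ T x : W₀.toScheme.Opens) : Set W₀.toScheme) :=
    fun z _ => Set.mem_iUnion.2 ⟨W₀.ι z, hxT _⟩
  obtain ⟨s, hs⟩ := isCompact_univ.elim_finite_subcover _ (fun x => (W₀.ι ⁻¹ᵁ T x).2) hcov
  have hpos : ∀ x ∈ s, 0 < r x := fun x _ => (he x).pos (hxT x)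
  refine ⟨freeDatum (R := ∏ x ∈ s, r x) (Finset.prod_pos hpos) fun z => ?_⟩
  obtain ⟨x, hx, hzx⟩ := Set.mem_iUnion₂.1 (hs (Set.mem_univ z))
  have hle : W₀.ι ''ᵁ (W₀.ι ⁻¹ᵁ T x) ≤ T x := by
    rintro _ ⟨w, hw, rfl⟩
    exact hw
  exact ⟨⟨W₀.ι ⁻¹ᵁ T x, le_top, r x, hpos x hx, Finset.dvd_prod_of_mem r hx, _, (he x).restrict W₀ hle⟩, hzx⟩

/-- The pullback of a restriction. -/
def pullRestrictIso (g : X' ⟶ X) (W₀ : X.Opens) (L : X.Modules) :
    (Scheme.Modules.pullback (g ∣_ W₀)).obj (L.restrict W₀.ι) ≅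
      ((Scheme.Modules.pullback g).obj L).restrict (g ⁻¹ᵁ W₀).ι :=
  (Scheme.Modules.pullback (g ∣_ W₀)).mapIso ((Scheme.Modules.restrictFunctorIsoPullback W₀.ι).app L) ≪≫
    (Scheme.Modules.pullbackComp (g ∣_ W₀) W₀.ι).app L ≪≫
    (Scheme.Modules.pullbackCongr (morphismRestrict_ι g W₀)).app L ≪≫
    ((Scheme.Modules.pullbackComp (g ⁻¹ᵁ W₀).ι g).app L).symm ≪≫
    ((Scheme.Modules.restrictFunctorIsoPullback (g ⁻¹ᵁ W₀).ι).app ((Scheme.Modules.pullback g).obj L)).symm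

theorem isInvertible_restrict (W₀ : X.Opens) {L : X.Modules} (hL : PicF.IsInvertible L) :
    PicF.IsInvertible (L.restrict W₀.ι) :=
  M2.isInvertible_of_iso ((Scheme.Modules.restrictFunctorIsoPullback W₀.ι).app L).symm
    (PicLoc.isInvertible_pullback _ hL)

theorem isAmple_of_pullback [IsFinite g] [Surjective g]
    (hfree : FlatMod.IsFinLocFree ((Coh.push g).obj (Coh.structureModule X')))
    (W₀ : X.Opens) [CompactSpace W₀.toScheme] {L : X.Modules} (hL : PicF.IsInvertible L)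
    (h : CohB1.IsAmple (((Scheme.Modules.pullback g).obj L).restrict (g ⁻¹ᵁ W₀).ι)) :
    CohB1.IsAmple (L.restrict W₀.ι) := by
  obtain ⟨D⟩ := exists_normDatum hfree W₀
  haveI : IsFinite (g ∣_ W₀) := MorphismProperty.of_isPullback (isPullback_morphismRestrict g W₀).flip inferInstance
  exact Amp.isAmple_of_iso ((Scheme.Modules.pullbackId W₀.toScheme).app _)
    (isAmple_of_normDatum D (isInvertible_restrict W₀ hL) (Amp.isAmple_of_iso (pullRestrictIso g W₀ L).symm h))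

theorem isRelAmple_pullback (f : X ⟶ Y) [QuasiCompact f] [IsAffineHom g] {L : X.Modules}
    (h : RelAmple.IsRelAmple f L) :
    RelAmple.IsRelAmple (g ≫ f) ((Scheme.Modules.pullback g).obj L) := by
  refine ⟨inferInstance, fun V => ?_⟩
  haveI : IsAffineHom (g ∣_ (f ⁻¹ᵁ V.1)) :=
    MorphismProperty.of_isPullback (isPullback_morphismRestrict g (f ⁻¹ᵁ V.1)).flip inferInstance
  exact Amp.isAmple_of_iso (pullRestrictIso g (f ⁻¹ᵁ V.1) L)
    (Amp.isAmple_pullback_of_isAffineHom (g ∣_ (f ⁻¹ᵁ V.1)) (h.2 V))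

end Groth.Agent.Norm11
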